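import Mathlib
import Cfsg.Agent.Lib.FusionP3.GT.Basic

/-!
Group lemmas for central lifts: a transfer map detecting a central complement, coprime actions on abelian groups.
-/

set_option autoImplicit false
set_option linter.style.haveILetI false
set_option linter.unusedSectionVars false

namespace Cfsg.Agent.Lib.FS.CentralLift

variable {G : Type*} [Group G] {p : ℕ} [Fact p.Prime]

/-- An element is in a subgroup once two powers with coprime exponents are. -/
theorem mem_of_two_pow {H : Subgroup G} {x : G} {q k : ℕ} (hq : ¬ p ∣ q) (h₁ : x ^ q ∈ H)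
    (h₂ : x ^ p ^ k ∈ H) : x ∈ H := by
  have hco : Nat.Coprime (p ^ k) q := ((Fact.out : p.Prime).coprime_iff_not_dvd.2 hq).pow_left k
  have hbez := Nat.gcd_eq_gcd_ab (p ^ k) q
  rw [hco.gcd_eq_one, Nat.cast_one] at hbez
  rw [← zpow_one x, hbez, zpow_add, zpow_mul, zpow_mul, zpow_natCast, zpow_natCast]
  exact mul_mem (zpow_mem h₂ _) (zpow_mem h₁ _)

/-- If `P = W K` with `K` central modulo `W` and `W` strongly closed in the Sylow subgroup `P`, there is a normal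
subgroup containing `W` and all elements of order prime to `p` and meeting `K` inside `W`. -/
theorem exists_normal_meeting [Finite G] (P : Sylow p G) (W K : Subgroup G)
    (hKP : K ≤ (P : Subgroup G)) (hcov : ∀ x ∈ (P : Subgroup G), ∃ w ∈ W, w⁻¹ * x ∈ K)
    (hWP : W ≤ (P : Subgroup G)) (habel : ∀ a ∈ K, ∀ b ∈ K, a * b = b * a)
    (hnorm : ∀ x ∈ (P : Subgroup G), ∀ w ∈ W, x * w * x⁻¹ ∈ W)
    (hcen : ∀ g : G, ∀ k ∈ K, g * k * g⁻¹ * k⁻¹ ∈ W)
    (hstrong : ∀ g : G, ∀ w ∈ W, g * w * g⁻¹ ∈ (P : Subgroup G) → g * w * g⁻¹ ∈ W) :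
    ∃ N : Subgroup G, N.Normal ∧ W ≤ N ∧ (∀ g : G, (orderOf g).Coprime p → g ∈ N) ∧
      ∀ k ∈ K, k ∈ N → k ∈ W := by
  classical
  set H : Subgroup G := (P : Subgroup G) with hH
  letI := H.fintypeQuotientOfFiniteIndex
  set W₀ : Subgroup H := W.subgroupOf H with hW₀
  haveI : W₀.Normal := ⟨fun w hw x => Subgroup.mem_subgroupOf.2 (hnorm x x.2 w (Subgroup.mem_subgroupOf.1 hw))⟩
  have hrep : ∀ c : H ⧸ W₀, ∃ k : H, (k : G) ∈ K ∧ (QuotientGroup.mk k : H ⧸ W₀) = c := fun c => by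
    obtain ⟨x, rfl⟩ := QuotientGroup.mk_surjective c
    obtain ⟨w, hw, hk⟩ := hcov x x.2
    refine ⟨(⟨w, hWP hw⟩ : H)⁻¹ * x, hk, QuotientGroup.eq.2 (Subgroup.mem_subgroupOf.2 ?_)⟩
    rw [mul_inv_rev, inv_inv, Subgroup.coe_mul, Subgroup.coe_mul, Subgroup.coe_inv]
    show (x : G)⁻¹ * w * x ∈ W
    simpa using hnorm _ (inv_mem x.2) w hw
  letI : CommGroup (H ⧸ W₀) :=
    { (inferInstance : Group (H ⧸ W₀)) with
      mul_comm := fun c d => by
        obtain ⟨a, ha, rfl⟩ := hrep c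
        obtain ⟨b, hb, rfl⟩ := hrep d
        rw [← QuotientGroup.mk_mul, ← QuotientGroup.mk_mul,
          show a * b = b * a from Subtype.ext (habel a ha b hb)] }
  let ϕ : H →* H ⧸ W₀ := QuotientGroup.mk' W₀
  let τ : G →* H ⧸ W₀ := MonoidHom.transfer ϕ
  have hpc : IsPGroup p (H ⧸ W₀) := P.isPGroup'.to_quotient W₀
  have h1 : ∀ {x : H}, ϕ x = 1 ↔ (x : G) ∈ W := fun {x} =>
    (QuotientGroup.eq_one_iff x).trans Subgroup.mem_subgroupOf
  refine ⟨τ.ker, inferInstance, fun w hw => ?_, fun g hg => ?_, fun k hk hkN => ?_⟩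
  · rw [MonoidHom.mem_ker]
    show MonoidHom.transfer ϕ w = 1
    rw [MonoidHom.transfer_eq_prod_quotient_orbitRel_zpowers_quot]
    refine Finset.prod_eq_one fun q _ => h1.2 ?_
    have hmem := QuotientGroup.out_conj_pow_minimalPeriod_mem H w q.out
    have h2 := hstrong (q.out.out)⁻¹ (w ^ Function.minimalPeriod (w • ·) q.out) (pow_mem hw _)
      (by simpa using hmem)
    simpa using h2
  · obtain ⟨j, hj⟩ := hpc (τ g)
    exact MonoidHom.mem_ker.2 (FusionP3.GT.eq_one_of_pow_coprime (FusionP3.GT.coprime_map τ hg) hj)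
  · have hτ : τ k = (ϕ ⟨k, hKP hk⟩) ^ H.index := by
      show MonoidHom.transfer ϕ k = _
      rw [MonoidHom.transfer_eq_prod_quotient_orbitRel_zpowers_quot, Subgroup.index_eq_sum_minimalPeriod H k,
        ← Finset.prod_pow_eq_pow_sum]
      refine Finset.prod_congr rfl fun q _ => ?_
      rw [← map_pow, ← mul_inv_eq_one, ← map_inv, ← map_mul, h1]
      have h2 := hcen (q.out.out)⁻¹ (k ^ Function.minimalPeriod (k • ·) q.out) (pow_mem hk _)
      simpa using h2
    rw [MonoidHom.mem_ker, hτ, ← map_pow, h1] at hkN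
    obtain ⟨j, hj⟩ := P.isPGroup' ⟨k, hKP hk⟩
    refine mem_of_two_pow (p := p) (k := j) P.not_dvd_index (by simpa using hkN) ?_
    rw [show k ^ p ^ j = 1 by simpa using congrArg Subtype.val hj]
    exact W.one_mem

/-- An element of order prime to `p` acting quadratically on an abelian `p`-group modulo an invariant subgroup
acts trivially. -/
theorem commutator_mem_of_quadratic (K L : Subgroup G) (hK : IsPGroup p K)
    (habel : ∀ a ∈ K, ∀ b ∈ K, a * b = b * a) (m : G) (hm : (orderOf m).Coprime p)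
    (hmK : ∀ k ∈ K, m * k * m⁻¹ ∈ K) (hmL : ∀ l ∈ L, m * l * m⁻¹ ∈ L)
    {k : G} (hk : k ∈ K)
    (hquad : m * (m * k * m⁻¹ * k⁻¹) * m⁻¹ * (m * k * m⁻¹ * k⁻¹)⁻¹ ∈ L) : m * k * m⁻¹ * k⁻¹ ∈ L := by
  classical
  set d := m * k * m⁻¹ * k⁻¹ with hd
  have hdK : d ∈ K := mul_mem (hmK k hk) (inv_mem hk)
  letI : CommGroup K := { (inferInstance : Group K) with mul_comm := fun a b => Subtype.ext (habel a a.2 b b.2) }
  set L₀ : Subgroup K := L.subgroupOf K
  let π : K →* K ⧸ L₀ := QuotientGroup.mk' L₀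
  let σ : K →* K := MonoidHom.mk' (fun a => ⟨m * a * m⁻¹, hmK a a.2⟩) fun a b => Subtype.ext (by
    show m * (a * b) * m⁻¹ = m * a * m⁻¹ * (m * b * m⁻¹); group)
  have hσL : L₀ ≤ (π.comp σ).ker := fun a ha =>
    (QuotientGroup.eq_one_iff _).2 (Subgroup.mem_subgroupOf.2 (hmL a (Subgroup.mem_subgroupOf.1 ha)))
  let σ' : K ⧸ L₀ →* K ⧸ L₀ := QuotientGroup.lift L₀ (π.comp σ) hσL
  set D := π ⟨d, hdK⟩
  have h1 : σ' (π ⟨k, hk⟩) = D * π ⟨k, hk⟩ := by
    show π (σ ⟨k, hk⟩) = _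
    rw [← map_mul]
    exact congrArg π (Subtype.ext (inv_mul_cancel_right (m * k * m⁻¹) k).symm)
  have h2 : σ' D = D := by
    show π (σ ⟨d, hdK⟩) = _
    rw [← mul_inv_eq_one, ← map_inv, ← map_mul]
    exact (QuotientGroup.eq_one_iff _).2 (Subgroup.mem_subgroupOf.2 hquad)
  have hit : ∀ i : ℕ, σ'^[i] (π ⟨k, hk⟩) = D ^ i * π ⟨k, hk⟩ := by
    intro i
    induction i with
    | zero => simp
    | succ i ih => rw [Function.iterate_succ_apply', ih, map_mul, map_pow, h2, h1, pow_succ, mul_assoc]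
  have hit' : ∀ (i : ℕ) (a : K), ∃ hi : m ^ i * a * (m ^ i)⁻¹ ∈ K, σ'^[i] (π a) = π ⟨_, hi⟩ := by
    intro i
    induction i with
    | zero => intro a; exact ⟨by simp, by simp⟩
    | succ i ih =>
      intro a
      obtain ⟨hi, he⟩ := ih a
      have hh : m ^ (i + 1) * a * (m ^ (i + 1))⁻¹ ∈ K := by
        have := hmK _ hi
        simpa [pow_succ', mul_assoc] using this
      refine ⟨hh, ?_⟩
      rw [Function.iterate_succ_apply', he]
      show π (σ _) = _
      exact congrArg π (Subtype.ext (by show m * (m ^ i * a * (m ^ i)⁻¹) * m⁻¹ = _; simp [pow_succ', mul_assoc]))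
  obtain ⟨hi, he⟩ := hit' (orderOf m) ⟨k, hk⟩
  rw [hit, show (⟨_, hi⟩ : K) = ⟨k, hk⟩ from Subtype.ext (by simp [pow_orderOf_eq_one]), mul_eq_right] at he
  obtain ⟨j, hj⟩ := hK ⟨d, hdK⟩
  have hD : D = 1 := by
    refine orderOf_eq_one_iff.1 (Nat.eq_one_of_dvd_coprimes (hm.pow_right j) (orderOf_dvd_of_pow_eq_one he)
      (orderOf_dvd_of_pow_eq_one ?_))
    show (π _) ^ p ^ j = 1
    rw [← map_pow, hj, map_one]
  exact Subgroup.mem_subgroupOf.1 ((QuotientGroup.eq_one_iff _).1 hD)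

end Cfsg.Agent.Lib.FS.CentralLift
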