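import Cfsg.Agent.Lib.FusionSystem.CentralLift.Basic
import Cfsg.Agent.Lib.FusionSystem.CentralLift.Transfer
import Cfsg.Agent.Lib.FusionSystem.Agree

/-!
The automizers of the lifted subsystem: conjugates of the inner part, carried along maps of `F`.
-/

set_option autoImplicit false
set_option linter.style.haveILetI false
set_option linter.unusedSectionVars false

namespace Cfsg.Agent.Lib.FS.CentralLift

open Cfsg Cfsg.FusionSystem Cfsg.Agent.Lib.FS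

variable {Ω : Type*} [Group Ω] {S : Subgroup Ω}

section Congr

variable {F : FusionSystem S} {P Q R : Subgroup Ω}

theorem congr_comp {φ : P →* Ω} {ψ : Q →* Ω} {χ : P →* Ω} (hφ : φ ∈ F.Hom P) (hQ : φ.range = Q)
    (hψ : ψ ∈ F.Hom Q) (hR : ψ.range = R) (hχ : χ ∈ F.Hom P) (hR' : χ.range = R)
    (e : ∀ (x : P) (hx : φ x ∈ Q), χ x = ψ ⟨φ x, hx⟩) (a : MulAut P) :
    MulAut.congr (homEquiv hχ hR') a = MulAut.congr (homEquiv hψ hR) (MulAut.congr (homEquiv hφ hQ) a) := by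
  have h1 : homEquiv hχ hR' = (homEquiv hφ hQ).trans (homEquiv hψ hR) :=
    MulEquiv.ext fun x => Subtype.ext (e x _)
  rw [h1]
  rfl

theorem congr_inv {φ : P →* Ω} {ψ : Q →* Ω} (hφ : φ ∈ F.Hom P) (hQ : φ.range = Q) (hψ : ψ ∈ F.Hom Q)
    (hP : ψ.range = P) (hl : ∀ (x : P) (hx : φ x ∈ Q), ψ ⟨φ x, hx⟩ = x) (a : MulAut P) :
    MulAut.congr (homEquiv hψ hP) (MulAut.congr (homEquiv hφ hQ) a) = a := by
  have h1 : homEquiv hψ hP = (homEquiv hφ hQ).symm := by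
    ext y
    obtain ⟨x, rfl⟩ := (homEquiv hφ hQ).surjective y
    rw [MulEquiv.symm_apply_apply]
    exact hl x _
  rw [h1]
  ext x
  simp [MulAut.congr]

theorem congr_apply_map {φ : P →* Ω} (hφ : φ ∈ F.Hom P) (hQ : φ.range = Q) (a : MulAut P) (x : P) :
    ((MulAut.congr (homEquiv hφ hQ) a (homEquiv hφ hQ x) : Q) : Ω) = φ (a x) := by
  show ((homEquiv hφ hQ (a ((homEquiv hφ hQ).symm (homEquiv hφ hQ x))) : Q) : Ω) = _
  rw [MulEquiv.symm_apply_apply, homEquiv_coe]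

/-- A conjugation inside a strongly closed subgroup is carried to such a conjugation. -/
theorem carry {T : Subgroup Ω} (hT : F.StronglyClosed T) {φ : P →* Ω} (hφ : φ ∈ F.Hom P) (hQ : φ.range = Q)
    (hrec : F.IsReceptive Q) {a : MulAut P} (ha : a ∈ autInducedBy T P)
    (h : MulAut.congr (homEquiv hφ hQ) a ∈ autInducedBy S Q) :
    MulAut.congr (homEquiv hφ hQ) a ∈ autInducedBy T Q := by
  obtain ⟨t, ht, hte⟩ := mem_autInducedBy.1 ha
  obtain ⟨s, hs, hse⟩ := mem_autInducedBy.1 h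
  obtain ⟨ψ, hψ, he⟩ := hrec.2 P φ hφ hQ
  have htN : t ∈ normalizerIn S P := ⟨hT.1 ht, mem_normalizer_of_aut hte⟩
  have hext : t ∈ extender S P φ := mem_extender_of htN hs fun x hx => by
    have h1 := hse (homEquiv hφ hQ x)
    rw [congr_apply_map, homEquiv_coe] at h1
    rw [← h1]
    exact congrArg φ (Subtype.ext (hte x).symm)
  refine mem_autInducedBy.2 ⟨ψ ⟨t, hext⟩, stronglyClosed_apply_mem hT hψ ht, fun y => ?_⟩
  obtain ⟨x, rfl⟩ := (homEquiv hφ hQ).surjective y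
  rw [congr_apply_map, homEquiv_coe]
  have hx : t * (x : Ω) * t⁻¹ ∈ P := hte x ▸ (a x).2
  refine (congrArg φ (Subtype.ext (hte x) : a x = ⟨_, hx⟩)).trans ?_
  exact ext_apply_conj (le_extender (src_le hφ) (apply_mem hφ))
    (fun z hz hz' => he z hz hz') ⟨t, hext⟩ x hx

end Congr

variable {Ω' : Type*} [Group Ω'] {S' T' : Subgroup Ω'}

/-- The automorphisms carried by some map to a fully normalised subgroup into the inner part. -/
def TT (F : FusionSystem S) (θ : S →* Ω') (T' R' : Subgroup Ω') : Set (MulAut ↥(preimageAlong θ R')) :=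
  {a | a ∈ F.autGroup (preimageAlong θ R') ∧ ∃ Q' : Subgroup Ω', Q' ≤ T' ∧
    ∃ (φ : ↥(preimageAlong θ R') →* Ω) (hφ : φ ∈ F.Hom (preimageAlong θ R'))
      (hr : φ.range = preimageAlong θ Q'), F.IsFullyNormalized (preimageAlong θ Q') ∧
        MulAut.congr (homEquiv hφ hr) a ∈ autInducedBy (preimageAlong θ T') (preimageAlong θ Q')}

variable [Finite S] {p : ℕ} [Fact p.Prime] {F : FusionSystem S} {θ : S →* Ω'} {F' : FusionSystem S'}
variable {E' : FusionSystem T'} (h : Setup F θ F' E' p)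
include h

namespace Setup

theorem autT_le_aut (R' : Subgroup Ω') :
    autInducedBy (preimageAlong θ T') (preimageAlong θ R') ≤ F.autGroup (preimageAlong θ R') := fun a ha => by
  obtain ⟨t, ht, he⟩ := mem_autInducedBy.1 ha
  exact autInducedBy_le_autGroup F (preimageAlong_le θ R')
    (mem_autInducedBy.2 ⟨t, preimageAlong_le θ T' ht, he⟩)

theorem autT_le_autS (R' : Subgroup Ω') :
    autInducedBy (preimageAlong θ T') (preimageAlong θ R') ≤ autInducedBy S (preimageAlong θ R') := fun a ha => by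
  obtain ⟨t, ht, he⟩ := mem_autInducedBy.1 ha
  exact mem_autInducedBy.2 ⟨t, preimageAlong_le θ T' ht, he⟩

theorem rel_conj {R' : Subgroup Ω'} (hR' : R' ≤ S') {s : S} {a : MulAut ↥(preimageAlong θ R')}
    (ha : ∀ x, ((a x : ↥(preimageAlong θ R')) : Ω) = s * x * (s : Ω)⁻¹) :
    ∃ b : MulAut R', Rel θ a b ∧ ∀ y, ((b y : R') : Ω') = θ s * y * (θ s)⁻¹ := by
  have hn : θ s ∈ normalizerIn S' R' :=
    (mem_normalizerIn_preimage h.hr hR' s).2 ⟨s.2, mem_normalizer_of_aut ha⟩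
  refine ⟨R'.normalizerMonoidHom ⟨θ s, hn.2⟩, fun x => Subtype.ext ?_, fun y => rfl⟩
  rw [normalizerMonoidHom_coe, proj_coe, proj_coe, ← map_inv, ← map_mul, ← map_mul]
  exact congrArg θ (Subtype.ext (ha x).symm)

theorem autT_le_pre {R' : Subgroup Ω'} (hR' : R' ≤ T') :
    autInducedBy (preimageAlong θ T') (preimageAlong θ R') ≤ pre F θ E' R' := fun a ha => by
  obtain ⟨t, ht, he⟩ := mem_autInducedBy.1 ha
  obtain ⟨htS, htT⟩ := mem_preimageAlong.1 ht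
  obtain ⟨b, hb, hbe⟩ := h.rel_conj (hR'.trans h.hT') (s := ⟨t, htS⟩) he
  exact ⟨h.autT_le_aut R' ha, b,
    autInducedBy_le_autGroup E' hR' (mem_autInducedBy.2 ⟨_, htT, hbe⟩), hb⟩

theorem TT_congr {R' Q' : Subgroup Ω'} {φ : ↥(preimageAlong θ R') →* Ω}
    (hφ : φ ∈ F.Hom (preimageAlong θ R')) (hr : φ.range = preimageAlong θ Q')
    {a : MulAut ↥(preimageAlong θ R')} (ha : a ∈ TT F θ T' R') :
    MulAut.congr (homEquiv hφ hr) a ∈ TT F θ T' Q' := by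
  obtain ⟨ha, Q₁, hQ₁, φ₁, hφ₁, hr₁, hfull, hmem⟩ := ha
  obtain ⟨ψ, hψ, hψr, hl, -⟩ := exists_inv hφ hr
  obtain ⟨χ, hχ, hχe⟩ := exists_comp hψ hφ₁ fun y => hψr.le ⟨y, rfl⟩
  have hχr : χ.range = preimageAlong θ Q₁ := by
    rw [← hr₁]
    ext z
    constructor
    · rintro ⟨y, rfl⟩; exact ⟨_, (hχe y).symm⟩
    · rintro ⟨x, rfl⟩
      exact ⟨⟨φ x, hr.le ⟨x, rfl⟩⟩, (hχe _).trans (congrArg φ₁ (Subtype.ext (hl x _)))⟩
  refine ⟨congr_mem_autGroup hφ hr ha, Q₁, hQ₁, χ, hχ, hχr, hfull, ?_⟩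
  rwa [congr_comp hψ hψr hφ₁ hr₁ hχ hχr (fun y hy => hχe y) (MulAut.congr (homEquiv hφ hr) a),
    congr_inv hφ hr hψ hψr hl]

theorem TT_subset_pre {R' : Subgroup Ω'} (hR' : R' ≤ T') {a : MulAut ↥(preimageAlong θ R')}
    (ha : a ∈ TT F θ T' R') : a ∈ pre F θ E' R' := by
  obtain ⟨-, Q', hQ', φ, hφ, hr, -, hmem⟩ := ha
  obtain ⟨ψ, hψ, hψr, hl, -⟩ := exists_inv hφ hr
  have h1 := h.congr_mem_pre hQ' hψ hψr (hR'.trans h.hT') (h.autT_le_pre hQ' hmem)
  rwa [congr_inv hφ hr hψ hψr hl] at h1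

theorem TT_carry {R' Q' : Subgroup Ω'} {φ : ↥(preimageAlong θ R') →* Ω}
    (hφ : φ ∈ F.Hom (preimageAlong θ R')) (hr : φ.range = preimageAlong θ Q')
    (hfull : F.IsFullyNormalized (preimageAlong θ Q')) {a : MulAut ↥(preimageAlong θ R')}
    (ha : a ∈ TT F θ T' R') (hS' : MulAut.congr (homEquiv hφ hr) a ∈ autInducedBy S (preimageAlong θ Q')) :
    MulAut.congr (homEquiv hφ hr) a ∈ autInducedBy (preimageAlong θ T') (preimageAlong θ Q') := by
  obtain ⟨-, Q₁, hQ₁, φ₁, hφ₁, hr₁, hfull₁, hmem⟩ := h.TT_congr hφ hr ha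
  obtain ⟨ψ, hψ, hψr, hl, -⟩ := exists_inv hφ₁ hr₁
  have h1 := congr_inv hφ₁ hr₁ hψ hψr hl (MulAut.congr (homEquiv hφ hr) a)
  rw [← h1] at hS' ⊢
  exact carry h.scT hψ hψr (receptive_of_fullyNormalized h.hS h.hF hfull) hmem hS'

theorem full_TT {R' : Subgroup Ω'} (hfull : F.IsFullyNormalized (preimageAlong θ R'))
    {a : MulAut ↥(preimageAlong θ R')} (ha : a ∈ TT F θ T' R')
    (hS' : a ∈ autInducedBy S (preimageAlong θ R')) :
    a ∈ autInducedBy (preimageAlong θ T') (preimageAlong θ R') := by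
  have hid := subtype_mem F (preimageAlong_le θ R')
  have e : MulAut.congr (homEquiv hid (Subgroup.range_subtype _)) a = a := by
    rw [congr_eq_conj, show (homEquiv hid (Subgroup.range_subtype _) : MulAut _) = 1 from
      MulEquiv.ext fun x => Subtype.ext rfl]
    simp
  have h1 := h.TT_carry hid (Subgroup.range_subtype _) hfull ha (by rw [e]; exact hS')
  rwa [e] at h1

theorem autT_subset_TT {R' : Subgroup Ω'} (hR' : R' ≤ T') {a : MulAut ↥(preimageAlong θ R')}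
    (ha : a ∈ autInducedBy (preimageAlong θ T') (preimageAlong θ R')) : a ∈ TT F θ T' R' := by
  obtain ⟨Q', hQ', φ, hφ, hr, hfull⟩ := h.exists_full hR'
  obtain ⟨ψ, hψ, -, hψim⟩ := exists_normalizer_map h.hS h.hF hfull ⟨φ, hφ, hr⟩
  have hle := le_normalizerIn (preimageAlong_le θ R') (S := S)
  obtain ⟨φ₁, hφ₁, he₁⟩ := exists_restrict hψ hle
  have hr₁ : φ₁.range = preimageAlong θ Q' := by
    rw [← hψim, map_subgroupOf_eq_range hle]
    exact congrArg _ (MonoidHom.ext he₁)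
  refine ⟨h.autT_le_aut R' ha, Q', hQ', φ₁, hφ₁, hr₁, hfull, ?_⟩
  obtain ⟨t, ht, hte⟩ := mem_autInducedBy.1 ha
  have htN : t ∈ normalizerIn S (preimageAlong θ R') := ⟨preimageAlong_le θ T' ht, mem_normalizer_of_aut hte⟩
  refine mem_autInducedBy.2 ⟨ψ ⟨t, htN⟩, stronglyClosed_apply_mem h.scT hψ ht, fun y => ?_⟩
  obtain ⟨x, rfl⟩ := (homEquiv hφ₁ hr₁).surjective y
  rw [congr_apply_map, homEquiv_coe, he₁, he₁, ← map_inv, ← map_mul, ← map_mul]
  exact congrArg ψ (Subtype.ext (hte x))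

theorem conj_mem_TT {R' : Subgroup Ω'} {f a : MulAut ↥(preimageAlong θ R')}
    (hf : f ∈ F.autGroup (preimageAlong θ R')) (ha : a ∈ TT F θ T' R') : f * a * f⁻¹ ∈ TT F θ T' R' := by
  obtain ⟨φ, hφ, hr, he⟩ := exists_hom_of_aut (preimageAlong_le θ R') hf
  have h1 := h.TT_congr hφ hr ha
  rwa [congr_eq_conj hφ hr, show (homEquiv hφ hr : MulAut _) = f from
    MulEquiv.ext fun x => Subtype.ext (he x)] at h1

theorem ker_le_autS {R' : Subgroup Ω'} (hR' : R' ≤ S') (hfull : F.IsFullyNormalized (preimageAlong θ R')) :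
    Ker F θ R' ≤ autInducedBy S (preimageAlong θ R') := by
  haveI := finite_aut θ R'
  obtain ⟨R₀, hR₀⟩ := (fullyAutomized_of_fullyNormalized h.hS h.hF hfull).2
  obtain ⟨g, hg, hconj⟩ := exists_conj_le_sylow R₀ hR₀ (T := Ker F θ R') (fun _ hk => hk.1) h.ker_pgroup
  intro k hk
  have h1 := hconj _ (h.conj_mem_Ker hR' ((F.autGroup _).inv_mem hg) hk)
  simpa [mul_assoc] using h1

/-- The inner part of the kernel. -/
theorem L_one {R' : Subgroup Ω'} (hR' : R' ≤ T') : (1 : MulAut ↥(preimageAlong θ R')) ∈ TT F θ T' R' :=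
  h.autT_subset_TT hR' (one_mem _)

theorem L_mul {R' : Subgroup Ω'} (hR' : R' ≤ T') {k₁ k₂ : MulAut ↥(preimageAlong θ R')}
    (h₁ : k₁ ∈ Ker F θ R') (h₁' : k₁ ∈ TT F θ T' R') (h₂ : k₂ ∈ Ker F θ R') (h₂' : k₂ ∈ TT F θ T' R') :
    k₁ * k₂ ∈ TT F θ T' R' := by
  obtain ⟨Q', hQ', φ, hφ, hr, hfull⟩ := h.exists_full hR'
  have hK := h.ker_le_autS (hQ'.trans h.hT') hfull
  refine ⟨(mul_mem h₁.1 h₂.1), Q', hQ', φ, hφ, hr, hfull, ?_⟩
  rw [map_mul]
  exact mul_mem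
    (h.TT_carry hφ hr hfull h₁' (hK (h.congr_mem_Ker (hR'.trans h.hT') hφ hr (hQ'.trans h.hT') h₁)))
    (h.TT_carry hφ hr hfull h₂' (hK (h.congr_mem_Ker (hR'.trans h.hT') hφ hr (hQ'.trans h.hT') h₂)))

theorem L_inv {R' : Subgroup Ω'} (hR' : R' ≤ T') {k : MulAut ↥(preimageAlong θ R')}
    (h₁ : k ∈ Ker F θ R') (h₁' : k ∈ TT F θ T' R') : k⁻¹ ∈ TT F θ T' R' := by
  obtain ⟨Q', hQ', φ, hφ, hr, hfull⟩ := h.exists_full hR'
  have hK := h.ker_le_autS (hQ'.trans h.hT') hfull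
  refine ⟨inv_mem h₁.1, Q', hQ', φ, hφ, hr, hfull, ?_⟩
  rw [map_inv]
  exact inv_mem
    (h.TT_carry hφ hr hfull h₁' (hK (h.congr_mem_Ker (hR'.trans h.hT') hφ hr (hQ'.trans h.hT') h₁)))

end Setup

omit h

/-- The kernel elements in `TT`, as a subgroup. -/
def Lsub (h : Setup F θ F' E' p) {R' : Subgroup Ω'} (hR' : R' ≤ T') :
    Subgroup (MulAut ↥(preimageAlong θ R')) where
  carrier := {k | k ∈ Ker F θ R' ∧ k ∈ TT F θ T' R'}
  one_mem' := ⟨one_mem _, h.L_one hR'⟩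
  mul_mem' := fun ⟨a, a'⟩ ⟨b, b'⟩ => ⟨mul_mem a b, h.L_mul hR' a a' b b'⟩
  inv_mem' := fun ⟨a, a'⟩ => ⟨inv_mem a, h.L_inv hR' a a'⟩

include h

namespace Setup

theorem conj_mem_Lsub {R' : Subgroup Ω'} (hR' : R' ≤ T') {f k : MulAut ↥(preimageAlong θ R')}
    (hf : f ∈ F.autGroup (preimageAlong θ R')) (hk : k ∈ Lsub h hR') : f * k * f⁻¹ ∈ Lsub h hR' :=
  ⟨h.conj_mem_Ker (hR'.trans h.hT') hf hk.1, h.conj_mem_TT hf hk.2⟩

theorem autS_inf_le {R' : Subgroup Ω'} (hR' : R' ≤ T') (hfull : E'.IsFullyNormalized R') {b : MulAut R'}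
    (hb : b ∈ E'.autGroup R') (hbS : b ∈ autInducedBy S' R') : b ∈ autInducedBy T' R' := by
  haveI := h.finite'
  haveI := h.finiteT'
  obtain ⟨R₀, hR₀⟩ := (fullyAutomized_of_fullyNormalized h.pgroupT' h.esat hfull).2
  set X : Subgroup (MulAut R') := autInducedBy S' R' ⊓ E'.autGroup R'
  have hX : IsPGroup p (X.subgroupOf (E'.autGroup R')) :=
    ((isPGroup_autInducedBy h.pgroup' R').to_le inf_le_left).of_equiv
      (Subgroup.subgroupOfEquivOfLe (inf_le_right : X ≤ _)).symm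
  have hle : (R₀ : Subgroup (E'.autGroup R')) ≤ X.subgroupOf (E'.autGroup R') := by
    rw [hR₀]
    intro x hx
    obtain ⟨t, ht, he⟩ := mem_autInducedBy.1 (Subgroup.mem_subgroupOf.1 hx)
    exact Subgroup.mem_subgroupOf.2 ⟨mem_autInducedBy.2 ⟨t, h.hT' ht, he⟩, x.2⟩
  have h1 : (⟨b, hb⟩ : E'.autGroup R') ∈ (R₀ : Subgroup (E'.autGroup R')) := by
    rw [← R₀.is_maximal' hX hle]; exact Subgroup.mem_subgroupOf.2 ⟨hbS, hb⟩
  rw [hR₀] at h1
  exact h1

theorem P0_decomp {R' : Subgroup Ω'} (hR' : R' ≤ T') (hfull : F.IsFullyNormalized (preimageAlong θ R'))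
    {x : MulAut ↥(preimageAlong θ R')} (hx : x ∈ autInducedBy S (preimageAlong θ R'))
    (hxp : x ∈ pre F θ E' R') :
    ∃ w ∈ autInducedBy (preimageAlong θ T') (preimageAlong θ R'), w⁻¹ * x ∈ Ker F θ R' := by
  obtain ⟨s, hs, hse⟩ := mem_autInducedBy.1 hx
  obtain ⟨b, hb, hbe⟩ := h.rel_conj (hR'.trans h.hT') (s := ⟨s, hs⟩) hse
  obtain ⟨hxa, b', hb', hxb'⟩ := hxp
  obtain rfl := h.rel_unique (hR'.trans h.hT') hb hxb'
  obtain ⟨t', ht', hte⟩ := mem_autInducedBy.1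
    (h.autS_inf_le hR' (h.fullE hR' (h.full_of_full (hR'.trans h.hT') hfull)) hb'
      (mem_autInducedBy.2 ⟨_, h.hr.le ⟨_, rfl⟩, hbe⟩))
  obtain ⟨t, rfl⟩ := h.hr.ge (h.hT' ht')
  have htn : (t : Ω) ∈ normalizerIn S (preimageAlong θ R') :=
    (mem_normalizerIn_preimage h.hr (hR'.trans h.hT') t).1 ⟨h.hr.le ⟨t, rfl⟩, mem_normalizer_of_aut hte⟩
  set w : MulAut ↥(preimageAlong θ R') := (preimageAlong θ R').normalizerMonoidHom ⟨t, htn.2⟩
  have hwm : w ∈ autInducedBy (preimageAlong θ T') (preimageAlong θ R') :=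
    mem_autInducedBy.2 ⟨t, mem_preimageAlong.2 ⟨t.2, ht'⟩, fun _ => rfl⟩
  obtain ⟨b₁, hb₁, hb₁e⟩ := h.rel_conj (hR'.trans h.hT') (s := t) (a := w) fun _ => rfl
  obtain rfl : b₁ = b := MulEquiv.ext fun y => Subtype.ext ((hb₁e y).trans (hte y).symm)
  refine ⟨w, hwm, mul_mem (inv_mem (h.autT_le_aut R' hwm)) hxa, ?_⟩
  have := hb₁.inv.mul hxb'
  rwa [inv_mul_cancel] at this

theorem autS_conj_autT {R' : Subgroup Ω'} {x w : MulAut ↥(preimageAlong θ R')}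
    (hx : x ∈ autInducedBy S (preimageAlong θ R'))
    (hw : w ∈ autInducedBy (preimageAlong θ T') (preimageAlong θ R')) :
    x * w * x⁻¹ ∈ autInducedBy (preimageAlong θ T') (preimageAlong θ R') := by
  obtain ⟨s, hs, hse⟩ := mem_autInducedBy.1 hx
  obtain ⟨t, ht, hte⟩ := mem_autInducedBy.1 hw
  refine mem_autInducedBy.2 ⟨s * t * s⁻¹, conj_mem_of_normalizer (stronglyClosed_le_normalizer h.scT hs) ht,
    fun y => ?_⟩
  have h1 := hse (x⁻¹ y)
  rw [MulAut.apply_inv_self] at h1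
  rw [MulAut.mul_apply, MulAut.mul_apply, hse, hte]
  conv_rhs => rw [h1]
  group

/-- `Aut_S ∩ pre` is a Sylow subgroup of every intermediate group. -/
theorem exists_P0_sylow {R' : Subgroup Ω'} (hR' : R' ≤ T') (hfull : F.IsFullyNormalized (preimageAlong θ R'))
    {A : Subgroup (MulAut ↥(preimageAlong θ R'))} (hA : A ≤ pre F θ E' R')
    (hP : autInducedBy S (preimageAlong θ R') ⊓ pre F θ E' R' ≤ A) :
    ∃ P : Sylow p A,
      (P : Subgroup A) = (autInducedBy S (preimageAlong θ R') ⊓ pre F θ E' R').subgroupOf A := by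
  haveI := finite_aut θ R'
  set P₀ := autInducedBy S (preimageAlong θ R') ⊓ pre F θ E' R' with hP₀
  have hp₀ : IsPGroup p (P₀.subgroupOf A) :=
    ((isPGroup_autInducedBy h.hS _).to_le inf_le_left).of_equiv (Subgroup.subgroupOfEquivOfLe hP).symm
  obtain ⟨Q, hQ⟩ := hp₀.exists_le_sylow
  refine ⟨Q, (Subgroup.eq_of_le_of_card_ge hQ ?_).symm⟩
  obtain ⟨R₀, hR₀⟩ := (fullyAutomized_of_fullyNormalized h.hS h.hF hfull).2
  obtain ⟨g, hg, hconj⟩ := exists_conj_le_sylow R₀ hR₀ (T := (Q : Subgroup A).map A.subtype)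
    ((Subgroup.map_subtype_le _).trans (hA.trans pre_le)) (Q.isPGroup'.map _)
  have hmem : ∀ q : (Q : Subgroup A), g * ((q : A) : MulAut ↥(preimageAlong θ R')) * g⁻¹ ∈ P₀ := fun q =>
    ⟨hconj _ ⟨_, q.2, rfl⟩, h.conj_mem_pre hR' hg (hA (q : A).2)⟩
  refine Nat.card_le_card_of_injective (fun q => (⟨⟨_, hP (hmem q)⟩, hmem q⟩ : P₀.subgroupOf A)) fun a b e => ?_
  have e' : g * ((a : A) : MulAut ↥(preimageAlong θ R')) * g⁻¹ = g * ((b : A) : MulAut _) * g⁻¹ :=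
    congrArg (fun z : P₀.subgroupOf A => ((z : A) : MulAut ↥(preimageAlong θ R'))) e
  exact Subtype.ext (Subtype.ext (mul_left_cancel (mul_right_cancel e')))

end Setup

end Cfsg.Agent.Lib.FS.CentralLift
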