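import Cfsg.Agent.Lib.FusionSystem.FactorSaturated
import Cfsg.Agent.Lib.FusionSystem.NormalFacts
import Cfsg.Agent.Lib.FusionP3.Prime.Normality

/-!
Lifting normal subsystems through a central quotient: the induced automorphisms and the preimage automizers.
-/

set_option autoImplicit false
set_option linter.style.haveILetI false
set_option linter.unusedSectionVars false

namespace Cfsg.Agent.Lib.FS.CentralLift

open Cfsg Cfsg.FusionSystem Cfsg.Agent.Lib.FS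

variable {Ω : Type*} [Group Ω] {S : Subgroup Ω} {Ω' : Type*} [Group Ω'] {S' T' : Subgroup Ω'}

/-- The data: a central quotient of `F` and a normal subsystem of the quotient. -/
structure Setup (F : FusionSystem S) (θ : S →* Ω') (F' : FusionSystem S') (E' : FusionSystem T') (p : ℕ) :
    Prop where
  hS : IsPGroup p S
  hF : F.IsSaturated p
  fix : ∀ (P : Subgroup Ω) (φ : P →* Ω), φ ∈ F.Hom P → ∀ (x : P) (hx : (x : Ω) ∈ S),
    θ ⟨x, hx⟩ = 1 → φ x = x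
  fac : F.IsFactorSystem (θ.ker.map S.subtype) θ F'
  hE : E'.IsNormalIn F' p

/-- `θ` from the preimage of `R'` to `R'`. -/
noncomputable def proj (θ : S →* Ω') (R' : Subgroup Ω') : ↥(preimageAlong θ R') →* R' :=
  (θ.comp (Subgroup.inclusion (preimageAlong_le θ R'))).codRestrict R' fun x => (mem_preimageAlong.1 x.2).2

theorem proj_coe (θ : S →* Ω') (R' : Subgroup Ω') (x : ↥(preimageAlong θ R')) :
    ((proj θ R' x : R') : Ω') = θ ⟨x, preimageAlong_le θ R' x.2⟩ := rfl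

theorem proj_congr {θ : S →* Ω'} {P' Q' : Subgroup Ω'} {x : ↥(preimageAlong θ P')} {y : ↥(preimageAlong θ Q')}
    (h : (x : Ω) = y) : ((proj θ P' x : P') : Ω') = (proj θ Q' y : Q') :=
  congrArg θ (Subtype.ext h)

theorem preimageAlong_mono {θ : S →* Ω'} {P' Q' : Subgroup Ω'} (h : P' ≤ Q') :
    preimageAlong θ P' ≤ preimageAlong θ Q' := fun _ hx =>
  let ⟨hS, hP⟩ := mem_preimageAlong.1 hx
  mem_preimageAlong.2 ⟨hS, h hP⟩

/-- `a` induces `b`. -/
def Rel (θ : S →* Ω') {R' : Subgroup Ω'} (a : MulAut ↥(preimageAlong θ R')) (b : MulAut R') : Prop :=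
  ∀ x, b (proj θ R' x) = proj θ R' (a x)

namespace Rel

variable {θ : S →* Ω'} {R' : Subgroup Ω'} {a a' : MulAut ↥(preimageAlong θ R')} {b b' : MulAut R'}

theorem one : Rel θ (1 : MulAut ↥(preimageAlong θ R')) (1 : MulAut R') := fun _ => rfl

theorem mul (h : Rel θ a b) (h' : Rel θ a' b') : Rel θ (a * a') (b * b') := fun x => by
  rw [MulAut.mul_apply, MulAut.mul_apply, h', h]

theorem inv (h : Rel θ a b) : Rel θ a⁻¹ b⁻¹ := fun x => by
  apply b.injective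
  rw [MulAut.apply_inv_self, h, MulAut.apply_inv_self]

theorem pow (h : Rel θ a b) (n : ℕ) : Rel θ (a ^ n) (b ^ n) := by
  induction n with
  | zero => rw [pow_zero, pow_zero]; exact one
  | succ n ih => rw [pow_succ, pow_succ]; exact ih.mul h

end Rel

variable [Finite S] {p : ℕ} [Fact p.Prime] {F : FusionSystem S} {θ : S →* Ω'} {F' : FusionSystem S'}
variable {E' : FusionSystem T'} (h : Setup F θ F' E' p)
include h

namespace Setup

theorem hr : θ.range = S' := h.fac.2.2.1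

theorem finite' : Finite S' := finite_image h.hr

theorem pgroup' : IsPGroup p S' := isPGroup_image h.hS h.hr

theorem central : F.IsCentral (θ.ker.map S.subtype) := by
  refine (isCentral_iff h.hS h.hF).2 ⟨Subgroup.map_subtype_le _, fun x hx y ⟨φ, hφ, hy⟩ => ?_⟩
  obtain ⟨s, hs, rfl⟩ := hx
  rw [← hy]
  exact h.fix _ φ hφ ⟨_, Subgroup.mem_zpowers _⟩ s.2 hs

theorem scK : F.StronglyClosed (θ.ker.map S.subtype) := by
  refine ⟨Subgroup.map_subtype_le _, fun R hR φ hφ x => ?_⟩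
  obtain ⟨s, hs, he⟩ := hR x.2
  rw [h.fix R φ hφ x (he ▸ s.2) (by rw [show (⟨(x : Ω), he ▸ s.2⟩ : S) = s from Subtype.ext he.symm]; exact hs)]
  exact ⟨s, hs, he⟩

theorem fsat : F'.IsSaturated p := factor_isSaturated h.hS h.hF h.scK h.fac

theorem hT' : T' ≤ S' := h.hE.1.2.2.2.1.1

theorem finiteT' : Finite T' :=
  haveI := h.finite'
  finite_sub h.hT'

theorem pgroupT' : IsPGroup p T' := h.pgroup'.to_le h.hT'

theorem esat : E'.IsSaturated p := h.hE.1.1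

theorem inv' : E'.IsInvariantIn F' := h.hE.1.2.2

theorem sub' : E'.IsSubsystemOf F' := h.inv'.1

theorem scT' : F'.StronglyClosed T' := h.inv'.2.1

theorem proj_surjective {R' : Subgroup Ω'} (hR' : R' ≤ S') : Function.Surjective (proj θ R') := fun y => by
  obtain ⟨s, hs⟩ := h.hr.ge (hR' y.2)
  exact ⟨⟨s, mem_preimageAlong.2 ⟨s.2, hs ▸ y.2⟩⟩, Subtype.ext hs⟩

theorem rel_unique {R' : Subgroup Ω'} (hR' : R' ≤ S') {a : MulAut ↥(preimageAlong θ R')} {b b' : MulAut R'}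
    (h₁ : Rel θ a b) (h₂ : Rel θ a b') : b = b' := MulEquiv.ext fun y => by
  obtain ⟨x, rfl⟩ := h.proj_surjective hR' y
  rw [h₁, h₂]

theorem preimage_injective {P' Q' : Subgroup Ω'} (hP' : P' ≤ S') (hQ' : Q' ≤ S')
    (he : preimageAlong θ P' = preimageAlong θ Q') : P' = Q' := by
  rw [← imageAlong_preimageAlong h.hr hP', he, imageAlong_preimageAlong h.hr hQ']

theorem eq_preimage {R : Subgroup Ω} (hK : θ.ker.map S.subtype ≤ R) (hR : R ≤ S) :
    preimageAlong θ (imageAlong θ R) = R := by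
  refine le_antisymm (fun x hx => ?_) (le_preimageAlong_imageAlong hR)
  obtain ⟨hxS, s, hs, he⟩ := mem_preimageAlong.1 hx
  have h1 : ((s⁻¹ * ⟨x, hxS⟩ : S) : Ω) ∈ θ.ker.map S.subtype :=
    ⟨s⁻¹ * ⟨x, hxS⟩, show θ _ = 1 by rw [map_mul, map_inv, he, inv_mul_cancel], rfl⟩
  rw [show x = (s : Ω) * ((s⁻¹ * ⟨x, hxS⟩ : S) : Ω) by simp]
  exact R.mul_mem hs (hK h1)

theorem imageAlong_le (R : Subgroup Ω) : imageAlong θ R ≤ S' := by
  rintro _ ⟨s, -, rfl⟩; exact h.hr.le ⟨s, rfl⟩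

theorem fix_mem {P : Subgroup Ω} {φ : P →* Ω} (hφ : φ ∈ F.Hom P) {x : P}
    (hx : (x : Ω) ∈ θ.ker.map S.subtype) : φ x = x := by
  obtain ⟨s, hs, he⟩ := hx
  refine h.fix P φ hφ x (src_le hφ x.2) ?_
  rw [show (⟨(x : Ω), src_le hφ x.2⟩ : S) = s from Subtype.ext he.symm]
  exact hs

theorem comm_ker {z g : Ω} (hz : z ∈ θ.ker.map S.subtype) (hg : g ∈ S) : g * z = z * g := by
  have h1 : g * z * g⁻¹ = z :=
    h.fix_mem (F.conj_mem le_rfl hg) (x := ⟨z, h.scK.1 hz⟩) hz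
  exact mul_inv_eq_iff_eq_mul.1 h1

/-- A map on a full preimage induces a map of the quotient. -/
theorem exists_ind {P' : Subgroup Ω'} (hP' : P' ≤ S') {φ : ↥(preimageAlong θ P') →* Ω}
    (hφ : φ ∈ F.Hom (preimageAlong θ P')) :
    ∃ φ' ∈ F'.Hom P', (∀ x, φ' (proj θ P' x) = θ ⟨φ x, apply_mem hφ x⟩) ∧
      φ.range = preimageAlong θ φ'.range := by
  obtain ⟨φ', hi⟩ := exists_induced h.scK h.hr hP' hφ
  exact ⟨φ', (h.fac.2.2.2 _ _).2 ⟨hP', φ, hφ, hi⟩, fun x => inducedAlong_apply hi x _ _ _,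
    range_eq_preimage h.scK h.hr hP' hφ hi⟩

/-- Lifting a map of the quotient. -/
theorem exists_lift {P' : Subgroup Ω'} {φ' : P' →* Ω'} (hφ' : φ' ∈ F'.Hom P') :
    ∃ φ, ∃ hφ : φ ∈ F.Hom (preimageAlong θ P'), (∀ x, φ' (proj θ P' x) = θ ⟨φ x, apply_mem hφ x⟩) ∧
      φ.range = preimageAlong θ φ'.range := by
  obtain ⟨hP', φ, hφ, hi⟩ := (h.fac.2.2.2 _ _).1 hφ'
  exact ⟨φ, hφ, fun x => inducedAlong_apply hi x _ _ _, range_eq_preimage h.scK h.hr hP' hφ hi⟩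

/-- Every map extends to the preimage of the image of its source. -/
theorem extend_preimage {P : Subgroup Ω} {φ : P →* Ω} (hφ : φ ∈ F.Hom P) :
    ∃ ψ ∈ F.Hom (preimageAlong θ (imageAlong θ P)),
      ∀ x : P, ψ ⟨x, le_preimageAlong_imageAlong (src_le hφ) x.2⟩ = φ x := by
  obtain ⟨ψ, hψ, he, -⟩ := h.central.2 P φ hφ
  have hle : preimageAlong θ (imageAlong θ P) ≤ P ⊔ θ.ker.map S.subtype := by
    intro x hx
    obtain ⟨hxS, s, hs, hse⟩ := mem_preimageAlong.1 hx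
    have h1 : ((s⁻¹ * ⟨x, hxS⟩ : S) : Ω) ∈ θ.ker.map S.subtype :=
      ⟨s⁻¹ * ⟨x, hxS⟩, show θ _ = 1 by rw [map_mul, map_inv, hse, inv_mul_cancel], rfl⟩
    rw [show x = (s : Ω) * ((s⁻¹ * ⟨x, hxS⟩ : S) : Ω) by simp]
    exact Subgroup.mul_mem_sup hs h1
  obtain ⟨ψ', hψ', he'⟩ := exists_restrict hψ hle
  exact ⟨ψ', hψ', fun x => (he' _).trans (he x)⟩

theorem scT : F.StronglyClosed (preimageAlong θ T') := by
  refine ⟨preimageAlong_le θ T', fun R hR φ hφ x => ?_⟩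
  obtain ⟨ψ, hψ, he⟩ := h.extend_preimage hφ
  obtain ⟨ψ', hψ', hi, -⟩ := h.exists_ind (h.imageAlong_le R) hψ
  refine mem_preimageAlong.2 ⟨apply_mem hφ x, ?_⟩
  have hle : imageAlong θ R ≤ T' := by
    rintro _ ⟨s, hs, rfl⟩; exact (mem_preimageAlong.1 (hR hs)).2
  have h1 := h.scT'.2 _ hle ψ' hψ' (proj θ _ ⟨x, le_preimageAlong_imageAlong (src_le hφ) x.2⟩)
  rw [hi] at h1
  rw [show (⟨φ x, apply_mem hφ x⟩ : S) = ⟨_, apply_mem hψ _⟩ from Subtype.ext (he x).symm]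
  exact h1

/-! ### Automorphisms -/

theorem exists_rel {R' : Subgroup Ω'} (hR' : R' ≤ S') {a : MulAut ↥(preimageAlong θ R')}
    (ha : a ∈ F.autGroup (preimageAlong θ R')) : ∃ b ∈ F'.autGroup R', Rel θ a b := by
  obtain ⟨φ, hφ, hφr, he⟩ := exists_hom_of_aut (preimageAlong_le θ R') ha
  obtain ⟨φ', hφ', hi, hr'⟩ := h.exists_ind hR' hφ
  have hr2 : φ'.range = R' := h.preimage_injective (range_le_base hφ') hR' (hr'.symm.trans hφr)
  refine ⟨homEquiv hφ' hr2, homEquiv_mem_autGroup hφ' hr2, fun x => Subtype.ext ?_⟩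
  rw [homEquiv_coe, hi, proj_coe]
  exact congrArg θ (Subtype.ext (he x))

theorem exists_rel_lift {R' : Subgroup Ω'} (hR' : R' ≤ S') {b : MulAut R'} (hb : b ∈ F'.autGroup R') :
    ∃ a ∈ F.autGroup (preimageAlong θ R'), Rel θ a b := by
  obtain ⟨φ', hφ', hr', he⟩ := exists_hom_of_aut hR' hb
  obtain ⟨φ, hφ, hi, hr⟩ := h.exists_lift hφ'
  rw [hr'] at hr
  refine ⟨homEquiv hφ hr, homEquiv_mem_autGroup hφ hr, fun x => Subtype.ext ?_⟩
  rw [← he, hi, proj_coe]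
  rfl

theorem proj_homEquiv {P' Q' : Subgroup Ω'} {φ : ↥(preimageAlong θ P') →* Ω}
    (hφ : φ ∈ F.Hom (preimageAlong θ P')) (hr : φ.range = preimageAlong θ Q') {φ' : P' →* Ω'}
    (hφ' : φ' ∈ F'.Hom P') (hr' : φ'.range = Q')
    (hi : ∀ x, φ' (proj θ P' x) = θ ⟨φ x, apply_mem hφ x⟩) (x : ↥(preimageAlong θ P')) :
    proj θ Q' (homEquiv hφ hr x) = homEquiv hφ' hr' (proj θ P' x) :=
  Subtype.ext (hi x).symm

theorem rel_congr {P' Q' : Subgroup Ω'} {φ : ↥(preimageAlong θ P') →* Ω}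
    (hφ : φ ∈ F.Hom (preimageAlong θ P')) (hr : φ.range = preimageAlong θ Q') {φ' : P' →* Ω'}
    (hφ' : φ' ∈ F'.Hom P') (hr' : φ'.range = Q')
    (hi : ∀ x, φ' (proj θ P' x) = θ ⟨φ x, apply_mem hφ x⟩) {a : MulAut ↥(preimageAlong θ P')} {b : MulAut P'}
    (hab : Rel θ a b) :
    Rel θ (MulAut.congr (homEquiv hφ hr) a) (MulAut.congr (homEquiv hφ' hr') b) := fun y => by
  obtain ⟨x, rfl⟩ := (homEquiv hφ hr).surjective y
  rw [h.proj_homEquiv hφ hr hφ' hr' hi]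
  show homEquiv hφ' hr' (b ((homEquiv hφ' hr').symm _)) = proj θ Q' (homEquiv hφ hr (a ((homEquiv hφ hr).symm _)))
  rw [MulEquiv.symm_apply_apply, MulEquiv.symm_apply_apply, h.proj_homEquiv hφ hr hφ' hr' hi, hab]

end Setup

omit h

/-- The automorphisms inducing automorphisms of the subsystem. -/
def pre (F : FusionSystem S) (θ : S →* Ω') (E' : FusionSystem T') (R' : Subgroup Ω') :
    Subgroup (MulAut ↥(preimageAlong θ R')) where
  carrier := {a | a ∈ F.autGroup (preimageAlong θ R') ∧ ∃ b ∈ E'.autGroup R', Rel θ a b}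
  one_mem' := ⟨one_mem _, 1, one_mem _, Rel.one⟩
  mul_mem' := fun ⟨ha, b, hb, hab⟩ ⟨ha', b', hb', hab'⟩ => ⟨mul_mem ha ha', b * b', mul_mem hb hb', hab.mul hab'⟩
  inv_mem' := fun ⟨ha, b, hb, hab⟩ => ⟨inv_mem ha, b⁻¹, inv_mem hb, hab.inv⟩

/-- The automorphisms that are trivial modulo the kernel. -/
def Ker (F : FusionSystem S) (θ : S →* Ω') (R' : Subgroup Ω') :
    Subgroup (MulAut ↥(preimageAlong θ R')) where
  carrier := {a | a ∈ F.autGroup (preimageAlong θ R') ∧ Rel θ a 1}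
  one_mem' := ⟨one_mem _, Rel.one⟩
  mul_mem' := fun ⟨ha, hab⟩ ⟨ha', hab'⟩ => ⟨mul_mem ha ha', by simpa using hab.mul hab'⟩
  inv_mem' := fun ⟨ha, hab⟩ => ⟨inv_mem ha, by simpa using hab.inv⟩

theorem Ker_le_pre {R' : Subgroup Ω'} : Ker F θ R' ≤ pre F θ E' R' :=
  fun _ ha => ⟨ha.1, 1, one_mem _, ha.2⟩

theorem pre_le {R' : Subgroup Ω'} : pre F θ E' R' ≤ F.autGroup (preimageAlong θ R') := fun _ ha => ha.1

theorem finite_aut (θ : S →* Ω') (R' : Subgroup Ω') : Finite (MulAut ↥(preimageAlong θ R')) :=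
  haveI := finite_sub (preimageAlong_le θ R')
  FusionP3.GT.finite_mulAut _

theorem congr_eq_conj {R : Subgroup Ω} {φ : R →* Ω} (hφ : φ ∈ F.Hom R) (hr : φ.range = R) (x : MulAut R) :
    MulAut.congr (homEquiv hφ hr) x = homEquiv hφ hr * x * (homEquiv hφ hr : MulAut R)⁻¹ := rfl

include h

namespace Setup

theorem ker_offset {R' : Subgroup Ω'} {a : MulAut ↥(preimageAlong θ R')} (ha : a ∈ Ker F θ R')
    (x : ↥(preimageAlong θ R')) : ((x⁻¹ * a x : ↥(preimageAlong θ R')) : Ω) ∈ θ.ker.map S.subtype := by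
  refine ⟨⟨_, preimageAlong_le θ R' (x⁻¹ * a x).2⟩, ?_, rfl⟩
  have h1 : proj θ R' (x⁻¹ * a x) = 1 := by
    rw [map_mul, map_inv, ← ha.2 x, MulAut.one_apply, inv_mul_cancel]
  exact congrArg Subtype.val h1

theorem aut_fix {R : Subgroup Ω} (hR : R ≤ S) {a : MulAut R} (ha : a ∈ F.autGroup R) {x : R}
    (hx : (x : Ω) ∈ θ.ker.map S.subtype) : a x = x := by
  obtain ⟨φ, hφ, -, he⟩ := exists_hom_of_aut hR ha
  exact Subtype.ext ((he x).symm.trans (h.fix_mem hφ hx))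

theorem ker_comm {R' : Subgroup Ω'} {a b : MulAut ↥(preimageAlong θ R')} (ha : a ∈ Ker F θ R')
    (hb : b ∈ Ker F θ R') : a * b = b * a := MulEquiv.ext fun x => by
  have ea : a x = x * (x⁻¹ * a x) := (mul_inv_cancel_left _ _).symm
  have eb : b x = x * (x⁻¹ * b x) := (mul_inv_cancel_left _ _).symm
  have hfa := h.aut_fix (preimageAlong_le θ R') ha.1 (h.ker_offset hb x)
  have hfb := h.aut_fix (preimageAlong_le θ R') hb.1 (h.ker_offset ha x)
  have hcm : (x⁻¹ * a x) * (x⁻¹ * b x) = (x⁻¹ * b x) * (x⁻¹ * a x) :=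
    Subtype.ext (h.comm_ker (h.ker_offset hb x) (preimageAlong_le θ R' (x⁻¹ * a x).2))
  calc (a * b) x = a (x * (x⁻¹ * b x)) := by rw [MulAut.mul_apply, ← eb]
    _ = x * ((x⁻¹ * a x) * (x⁻¹ * b x)) := by rw [map_mul, hfa, ← mul_assoc x, ← ea]
    _ = b (x * (x⁻¹ * a x)) := by rw [hcm, map_mul, hfb, ← mul_assoc x, ← eb]
    _ = (b * a) x := by rw [MulAut.mul_apply, ← ea]

theorem ker_pgroup {R' : Subgroup Ω'} : IsPGroup p (Ker F θ R') := by
  intro a
  obtain ⟨k, hk⟩ := IsPGroup.iff_card.1 h.hS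
  refine ⟨k, Subtype.ext (MulEquiv.ext fun x => ?_)⟩
  have hpow : ∀ n : ℕ, ((a : MulAut ↥(preimageAlong θ R')) ^ n) x = x * (x⁻¹ * (a : MulAut _) x) ^ n := by
    intro n
    induction n with
    | zero => simp
    | succ n ih =>
      rw [pow_succ', MulAut.mul_apply, ih, map_mul, map_pow,
        h.aut_fix (preimageAlong_le θ R') a.2.1 (h.ker_offset a.2 x), pow_succ' _ n, ← mul_assoc,
        mul_inv_cancel_left]
  show ((a : MulAut ↥(preimageAlong θ R')) ^ p ^ k) x = x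
  rw [hpow]
  have h1 : (x⁻¹ * (a : MulAut _) x) ^ p ^ k = 1 := by
    apply Subtype.ext
    have h2 : (⟨_, preimageAlong_le θ R' (x⁻¹ * (a : MulAut _) x).2⟩ : S) ^ p ^ k = 1 :=
      hk ▸ pow_card_eq_one'
    have h3 := congrArg Subtype.val h2
    simpa only [SubmonoidClass.coe_pow, Subgroup.coe_one] using h3
  rw [h1, mul_one]

theorem congr_mem_pre {P' Q' : Subgroup Ω'} (hP' : P' ≤ T') {φ : ↥(preimageAlong θ P') →* Ω}
    (hφ : φ ∈ F.Hom (preimageAlong θ P')) (hr : φ.range = preimageAlong θ Q') (hQ' : Q' ≤ S')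
    {a : MulAut ↥(preimageAlong θ P')} (ha : a ∈ pre F θ E' P') :
    MulAut.congr (homEquiv hφ hr) a ∈ pre F θ E' Q' := by
  haveI := h.finite'
  obtain ⟨ha, b, hb, hab⟩ := ha
  obtain ⟨φ', hφ', hi, hr'⟩ := h.exists_ind (hP'.trans h.hT') hφ
  have hr2 : φ'.range = Q' := h.preimage_injective (range_le_base hφ') hQ' (hr'.symm.trans hr)
  exact ⟨congr_mem_autGroup hφ hr ha, _, FusionP3.Prime.Normality.congr_mem_aut h.inv' hP' hφ' hr2 hb,
    h.rel_congr hφ hr hφ' hr2 hi hab⟩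

theorem congr_mem_Ker {P' Q' : Subgroup Ω'} (hP' : P' ≤ S') {φ : ↥(preimageAlong θ P') →* Ω}
    (hφ : φ ∈ F.Hom (preimageAlong θ P')) (hr : φ.range = preimageAlong θ Q') (hQ' : Q' ≤ S')
    {a : MulAut ↥(preimageAlong θ P')} (ha : a ∈ Ker F θ P') :
    MulAut.congr (homEquiv hφ hr) a ∈ Ker F θ Q' := by
  obtain ⟨φ', hφ', hi, hr'⟩ := h.exists_ind hP' hφ
  have hr2 : φ'.range = Q' := h.preimage_injective (range_le_base hφ') hQ' (hr'.symm.trans hr)
  refine ⟨congr_mem_autGroup hφ hr ha.1, ?_⟩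
  have h1 := h.rel_congr hφ hr hφ' hr2 hi ha.2
  rwa [map_one] at h1

theorem conj_mem_pre {R' : Subgroup Ω'} (hR' : R' ≤ T') {f a : MulAut ↥(preimageAlong θ R')}
    (hf : f ∈ F.autGroup (preimageAlong θ R')) (ha : a ∈ pre F θ E' R') :
    f * a * f⁻¹ ∈ pre F θ E' R' := by
  obtain ⟨φ, hφ, hr, he⟩ := exists_hom_of_aut (preimageAlong_le θ R') hf
  have h1 := h.congr_mem_pre hR' hφ hr (hR'.trans h.hT') ha
  rwa [congr_eq_conj hφ hr, show (homEquiv hφ hr : MulAut _) = f from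
    MulEquiv.ext fun x => Subtype.ext (he x)] at h1

theorem conj_mem_Ker {R' : Subgroup Ω'} (hR' : R' ≤ S') {f a : MulAut ↥(preimageAlong θ R')}
    (hf : f ∈ F.autGroup (preimageAlong θ R')) (ha : a ∈ Ker F θ R') :
    f * a * f⁻¹ ∈ Ker F θ R' := by
  obtain ⟨φ, hφ, hr, he⟩ := exists_hom_of_aut (preimageAlong_le θ R') hf
  have h1 := h.congr_mem_Ker hR' hφ hr hR' ha
  rwa [congr_eq_conj hφ hr, show (homEquiv hφ hr : MulAut _) = f from
    MulEquiv.ext fun x => Subtype.ext (he x)] at h1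

/-! ### Subgroups of the base of the subsystem -/

theorem centric_of_hom {R' : Subgroup Ω'} (hR' : E'.IsCentric R') {φ' : R' →* Ω'} (hφ' : φ' ∈ F'.Hom R') :
    E'.IsCentric φ'.range := by
  haveI := h.finite'
  haveI := h.finiteT'
  obtain ⟨α, hα, e, he, hd⟩ := h.inv'.2.2.2 R' hR'.1 φ' hφ'
  have hc : E'.IsCentric e.range :=
    Cfsg.Agent.Lib.Transfer.FusionLocal.isCentric_of_isConj ⟨e, he, rfl⟩ hR'
  have himg : FusionP3.Prime.img α e.range = φ'.range := by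
    ext y
    constructor
    · rintro ⟨z, ⟨x, hx⟩, rfl⟩
      exact ⟨x, (hd x (apply_mem he x)).trans (congrArg (fun w => ((α w : T') : Ω')) (Subtype.ext hx))⟩
    · rintro ⟨x, rfl⟩
      exact ⟨⟨e x, apply_mem he x⟩, ⟨x, rfl⟩, (hd x _).symm⟩
  rw [← himg]
  exact (FusionP3.Prime.kernel_of_weaklyNormal h.pgroup' h.hE.1).centric_img hc hα

theorem full_of_full {R' : Subgroup Ω'} (hR' : R' ≤ S')
    (hR : F.IsFullyNormalized (preimageAlong θ R')) : F'.IsFullyNormalized R' := by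
  refine ⟨hR', fun Q' hQ' => ?_⟩
  obtain ⟨φ', hφ', rfl⟩ := hQ'
  obtain ⟨φ, hφ, -, hr⟩ := h.exists_lift hφ'
  have hcard := hR.2 _ ⟨φ, hφ, hr⟩
  rw [card_normalizerIn_preimage h.hr hR', card_normalizerIn_preimage h.hr (range_le_base hφ')] at hcard
  haveI := finite_sub h.scK.1
  exact Nat.le_of_mul_le_mul_left hcard Nat.card_pos

theorem fullE {R' : Subgroup Ω'} (hR' : R' ≤ T') (hR : F'.IsFullyNormalized R') :
    E'.IsFullyNormalized R' := by
  haveI := h.finite'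
  refine ⟨hR', fun Q' hQ' => ?_⟩
  obtain ⟨φ', hφ', hr⟩ := hQ'
  have hQT : Q' ≤ T' := hr ▸ range_le_base hφ'
  have hconj : F'.IsConj Q' R' := isConj_symm ⟨φ', h.sub' _ hφ', hr⟩
  obtain ⟨ψ, hψ, hm, -⟩ := exists_normalizer_map h.pgroup' h.fsat hR hconj
  haveI := h.finiteT'
  haveI : Finite (normalizerIn T' R') := finite_sub inf_le_left
  refine Nat.card_le_card_of_injective
    (fun g : normalizerIn T' Q' => (⟨ψ ⟨g, h.hT' g.2.1, g.2.2⟩,
      stronglyClosed_apply_mem h.scT' hψ g.2.1, (hm _).2⟩ : normalizerIn T' R')) fun a b e => ?_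
  have h1 := F'.injective_of_mem hψ (congrArg Subtype.val e)
  exact Subtype.ext (congrArg (fun w : normalizerIn S' Q' => (w : Ω')) h1)

theorem exists_full {R' : Subgroup Ω'} (hR' : R' ≤ T') :
    ∃ Q' ≤ T', ∃ φ ∈ F.Hom (preimageAlong θ R'),
      φ.range = preimageAlong θ Q' ∧ F.IsFullyNormalized (preimageAlong θ Q') := by
  obtain ⟨Q, ⟨φ, hφ, hr⟩, hQ⟩ := exists_isFullyNormalized F (preimageAlong_le θ R')
  obtain ⟨φ', hφ', -, hr'⟩ := h.exists_ind (hR'.trans h.hT') hφ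
  have hle : φ'.range ≤ T' := by
    rintro _ ⟨x, rfl⟩; exact h.scT'.2 R' hR' φ' hφ' x
  exact ⟨φ'.range, hle, φ, hφ, hr', by rwa [← hr', hr]⟩

end Setup

end Cfsg.Agent.Lib.FS.CentralLift
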