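import Cfsg.Agent.Lib.FusionSystem.CentralLift.Good

/-!
The automorphism groups of the lifted system on members are the automizers.
-/

set_option autoImplicit false
set_option linter.style.haveILetI false
set_option linter.unusedSectionVars false
set_option maxHeartbeats 1000000

namespace Cfsg.Agent.Lib.FS.CentralLift

open Cfsg Cfsg.FusionSystem Cfsg.Agent.Lib.FS

variable {Ω : Type*} [Group Ω] {S : Subgroup Ω} {Ω' : Type*} [Group Ω'] {S' T' : Subgroup Ω'}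

/-- Read through connecting maps, `φ` gives elements of the automizer of `Q'`. -/
def Pred (F : FusionSystem S) (θ : S →* Ω') (E' : FusionSystem T') (p : ℕ) (Q' : Subgroup Ω') {X : Subgroup Ω}
    (φ : X →* Ω) : Prop :=
  ∀ R₁' R₂' : Subgroup Ω', E'.IsConj R₁' Q' → E'.IsConj R₂' Q' → ∀ hle : preimageAlong θ R₁' ≤ X,
    (∀ x : ↥(preimageAlong θ R₁'), φ ⟨x, hle x.2⟩ ∈ preimageAlong θ R₂') →
    ∀ ι₁ ι₂, Conn F θ E' p R₁' Q' ι₁ → Conn F θ E' p R₂' Q' ι₂ → ∀ a : MulAut ↥(preimageAlong θ Q'),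
      (∀ (x : Ω) (hx : x ∈ preimageAlong θ R₁') (h₁ : x ∈ preimageAlong θ (normalizerIn T' R₁'))
        (h₂ : φ ⟨x, hle hx⟩ ∈ preimageAlong θ (normalizerIn T' R₂')) (hq : ι₁ ⟨x, h₁⟩ ∈ preimageAlong θ Q'),
        ((a ⟨ι₁ ⟨x, h₁⟩, hq⟩ : ↥(preimageAlong θ Q')) : Ω) = ι₂ ⟨φ ⟨x, hle hx⟩, h₂⟩) →
      a ∈ Aut F θ E' p Q'

variable [Finite S] {p : ℕ} [Fact p.Prime] {F : FusionSystem S} {θ : S →* Ω'} {F' : FusionSystem S'}
variable {E' : FusionSystem T'} (h : Setup F θ F' E' p)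
include h

namespace Setup

theorem conn_restrict {R' Q' : Subgroup Ω'} (hR' : R' ≤ T') {ι : ↥(preimageAlong θ (normalizerIn T' R')) →* Ω}
    (hι : Conn F θ E' p R' Q' ι) :
    ∃ ι₁, ∃ _ : ι₁ ∈ (lifted F θ E' p).Hom (preimageAlong θ R'), ι₁.range = preimageAlong θ Q' ∧
      ∀ x : ↥(preimageAlong θ R'), ι₁ x = ι ⟨x, preimageAlong_mono (le_normalizerIn hR') x.2⟩ := by
  obtain ⟨ι₁, hι₁, he⟩ := exists_restrict hι.1 (preimageAlong_mono (le_normalizerIn hR'))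
  refine ⟨ι₁, hι₁, ?_, he⟩
  rw [← hι.2, map_subgroupOf_eq_range (preimageAlong_mono (le_normalizerIn hR'))]
  exact congrArg MonoidHom.range (MonoidHom.ext he)

theorem card_preimage_of_conj {R' Q' : Subgroup Ω'} (hQ : Good F θ E' Q') (hconj : E'.IsConj R' Q') :
    Nat.card ↥(preimageAlong θ Q') = Nat.card ↥(preimageAlong θ R') := by
  obtain ⟨ι, hι⟩ := h.exists_conn hQ hconj
  obtain ⟨ι₁, hι₁, hr, -⟩ := h.conn_restrict (isConj_le_left hconj) hι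
  rw [← hr, card_range hι₁]

theorem exists_transfer {Q' R₁' R₂' : Subgroup Ω'} (hQ : Good F θ E' Q') (h₁ : E'.IsConj R₁' Q')
    (h₂ : E'.IsConj R₂' Q') {X : Subgroup Ω} {φ : X →* Ω} (hφ : φ ∈ (lifted F θ E' p).Hom X)
    (hle : preimageAlong θ R₁' ≤ X) (hmap : ∀ x : ↥(preimageAlong θ R₁'), φ ⟨x, hle x.2⟩ ∈ preimageAlong θ R₂')
    {ι₁ : ↥(preimageAlong θ (normalizerIn T' R₁')) →* Ω} (hι₁ : Conn F θ E' p R₁' Q' ι₁)
    {ι₂ : ↥(preimageAlong θ (normalizerIn T' R₂')) →* Ω} (hι₂ : Conn F θ E' p R₂' Q' ι₂) :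
    ∃ a : MulAut ↥(preimageAlong θ Q'), ∀ (x : Ω) (hx : x ∈ preimageAlong θ R₁')
      (h₁ : x ∈ preimageAlong θ (normalizerIn T' R₁'))
      (h₂ : φ ⟨x, hle hx⟩ ∈ preimageAlong θ (normalizerIn T' R₂')) (hq : ι₁ ⟨x, h₁⟩ ∈ preimageAlong θ Q'),
      ((a ⟨ι₁ ⟨x, h₁⟩, hq⟩ : ↥(preimageAlong θ Q')) : Ω) = ι₂ ⟨φ ⟨x, hle hx⟩, h₂⟩ := by
  haveI := finite_sub (preimageAlong_le θ R₂')
  obtain ⟨f₁, hf₁, hr₁, he₁⟩ := h.conn_restrict (isConj_le_left h₁) hι₁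
  obtain ⟨f₂, hf₂, hr₂, he₂⟩ := h.conn_restrict (isConj_le_left h₂) hι₂
  obtain ⟨g, hg, hge⟩ := exists_restrict hφ hle
  have hgr : g.range = preimageAlong θ R₂' := range_eq_of_mem hg (fun x => hge x ▸ hmap x)
    ((h.card_preimage_of_conj hQ h₂).symm.trans (h.card_preimage_of_conj hQ h₁)).le
  refine ⟨((homEquiv hf₁ hr₁).symm.trans (homEquiv hg hgr)).trans (homEquiv hf₂ hr₂),
    fun x hx h₁' h₂' hq => ?_⟩
  have e1 : (⟨ι₁ ⟨x, h₁'⟩, hq⟩ : ↥(preimageAlong θ Q')) = homEquiv hf₁ hr₁ ⟨x, hx⟩ :=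
    Subtype.ext (he₁ ⟨x, hx⟩).symm
  rw [e1, MulEquiv.trans_apply, MulEquiv.trans_apply, MulEquiv.symm_apply_apply, homEquiv_coe, he₂]
  exact congrArg ι₂ (Subtype.ext (hge ⟨x, hx⟩))

/-- Generators satisfy the predicate at members not filling the subgroup. -/
theorem pred_gen_lt {Q' : Subgroup Ω'} (hQ : Good F θ E' Q')
    (ih : ∀ V' : Subgroup Ω', E'.IsCentric V' → Nat.card Q' < Nat.card V' →
      (lifted F θ E' p).autGroup (preimageAlong θ V') ≤ Aut F θ E' p V')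
    {W' : Subgroup Ω'} (hW : E'.IsCentric W') {w : MulAut ↥(preimageAlong θ W')} (hw : w ∈ Aut F θ E' p W')
    {R₁' R₂' : Subgroup Ω'} (h₁ : E'.IsConj R₁' Q') (h₂ : E'.IsConj R₂' Q') (hlt : R₁' < W')
    (hmap : ∀ x : ↥(preimageAlong θ R₁'),
      ((w ⟨x, preimageAlong_mono hlt.le x.2⟩ : ↥(preimageAlong θ W')) : Ω) ∈ preimageAlong θ R₂')
    {ι₁ : ↥(preimageAlong θ (normalizerIn T' R₁')) →* Ω} (hι₁ : Conn F θ E' p R₁' Q' ι₁)
    {ι₂ : ↥(preimageAlong θ (normalizerIn T' R₂')) →* Ω} (hι₂ : Conn F θ E' p R₂' Q' ι₂)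
    {a : MulAut ↥(preimageAlong θ Q')}
    (ha : ∀ (x : Ω) (hx : x ∈ preimageAlong θ R₁') (h₁ : x ∈ preimageAlong θ (normalizerIn T' R₁'))
      (h₂ : ((w ⟨x, preimageAlong_mono hlt.le hx⟩ : ↥(preimageAlong θ W')) : Ω) ∈
        preimageAlong θ (normalizerIn T' R₂')) (hq : ι₁ ⟨x, h₁⟩ ∈ preimageAlong θ Q'),
      ((a ⟨ι₁ ⟨x, h₁⟩, hq⟩ : ↥(preimageAlong θ Q')) : Ω) = ι₂ ⟨_, h₂⟩) :
    a ∈ Aut F θ E' p Q' := by
  haveI := h.finiteT'
  have hQT : Q' ≤ T' := hQ.centric.1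
  have hWT : W' ≤ T' := hW.1
  have hR₁ : R₁' ≤ T' := isConj_le_left h₁
  have hR₂ : R₂' ≤ T' := isConj_le_left h₂
  haveI := finite_sub (preimageAlong_le θ T')
  set V' : Subgroup Ω' := normalizerIn W' R₁' with hV
  haveI := finite_sub hWT
  haveI := finite_sub hR₂
  have hRV : R₁' ≤ V' := le_normalizerIn hlt.le
  have hVW : V' ≤ W' := normalizerIn_le R₁'
  have hVN : V' ≤ normalizerIn T' R₁' := fun g hg => ⟨hWT hg.1, hg.2⟩
  have hltV : R₁' < V' := FusionP3.Induction.lt_normalizerIn (h.pgroupT'.to_le hWT) hlt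
  have hVS : V' ≤ S' := hVW.trans (hWT.trans h.hT')
  obtain ⟨wh, hwh, -, hwhe⟩ := exists_hom_of_aut (preimageAlong_mono hWT) (h.contains_lifted W' hW hw)
  obtain ⟨ew, hew, hiw, -⟩ := h.lifted_ind (hWT.trans h.hT') hwh
  -- `w` carries the normaliser of `R₁'` into that of `R₂'`
  have hR₁₂ : (R₁'.subgroupOf W').map ew = R₂' := by
    have hle : (R₁'.subgroupOf W').map ew ≤ R₂' := by
      rintro _ ⟨y, hy, rfl⟩
      obtain ⟨x, hx⟩ := h.proj_surjective (hR₁.trans h.hT') ⟨(y : Ω'), hy⟩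
      have hy' : y = proj θ W' ⟨x, preimageAlong_mono hlt.le x.2⟩ :=
        Subtype.ext (congrArg Subtype.val hx :).symm
      rw [hy', hiw]
      exact (mem_preimageAlong.1 ((hwhe _).symm ▸ hmap x)).2
    refine Subgroup.eq_of_le_of_card_ge hle ?_
    rw [← Nat.card_congr ((R₁'.subgroupOf W').equivMapOfInjective _ (E'.injective_of_mem hew)).toEquiv,
      Nat.card_congr (Subgroup.subgroupOfEquivOfLe hlt.le).toEquiv]
    exact le_of_eq ((isConj_card h₂).symm.trans (isConj_card h₁))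
  obtain ⟨f₁, hf₁, hf₁e⟩ := exists_restrict hι₁.1 (preimageAlong_mono hVN)
  obtain ⟨e₁, he₁, hi₁, hr₁⟩ := h.lifted_ind hVS hf₁
  set X' : Subgroup Ω' := e₁.range
  obtain ⟨f₀, hf₀, hf₀r, hf₀e⟩ := h.conn_restrict hR₁ hι₁
  obtain ⟨f₁', hf₁', -, hl₁, -⟩ := exists_inv hf₁ hr₁
  obtain ⟨wV, hwV, hwVe⟩ := exists_restrict hwh (preimageAlong_mono hVW)
  have hwN : ∀ x, wV x ∈ preimageAlong θ (normalizerIn T' R₂') := fun x => by
    refine mem_preimageAlong.2 ⟨apply_mem hwV.1 x, ?_⟩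
    have h0 := apply_mem_normalizerIn hew hlt.le hR₁₂ (proj θ W' ⟨x, preimageAlong_mono hVW x.2⟩)
      (mem_preimageAlong.1 x.2).2.2
    rw [hiw] at h0
    rw [show (⟨wV x, apply_mem hwV.1 x⟩ : S) = ⟨_, apply_mem hwh.1 _⟩ from Subtype.ext (hwVe x)]
    exact h0
  obtain ⟨g₁, hg₁, hg₁e⟩ := exists_comp hwV hι₂.1 hwN
  have hf₁'v : ∀ x, f₁' x ∈ preimageAlong θ V' := fun x => by
    obtain ⟨y, hy⟩ := hr₁.ge x.2
    rw [show x = ⟨f₁ y, hr₁.le ⟨y, rfl⟩⟩ from Subtype.ext hy.symm, hl₁]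
    exact y.2
  obtain ⟨Θ, hΘ, hΘe⟩ := exists_comp hf₁' hg₁ hf₁'v
  have hXN : X' ≤ normalizerIn T' Q' := by
    rintro _ ⟨y, rfl⟩
    obtain ⟨x, rfl⟩ := h.proj_surjective hVS y
    have hm := apply_mem_normalizerIn hι₁.1 (preimageAlong_mono (le_normalizerIn hR₁)) hι₁.2
      ⟨(x : Ω), preimageAlong_mono hVN x.2⟩
      ((mem_normalizerIn_preimage h.hr (hR₁.trans h.hT') ⟨x, preimageAlong_le θ V' x.2⟩).1
        ⟨hVS (mem_preimageAlong.1 x.2).2, (mem_preimageAlong.1 x.2).2.2⟩).2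
    have hi' := hi₁ x
    obtain ⟨hm₁, hm₂⟩ := hm
    refine ⟨apply_mem he₁ _, ?_⟩
    rw [hi']
    refine ((mem_normalizerIn_preimage h.hr (hQT.trans h.hT') ⟨f₁ x, apply_mem hf₁.1 x⟩).2
      ⟨apply_mem hf₁.1 x, ?_⟩).2
    show f₁ x ∈ _
    rw [hf₁e]
    exact hm₂
  have hQX : Q' ≤ X' := by
    refine h.le_of_preimage_le (hQT.trans h.hT') ?_
    rw [← hr₁, ← hf₀r]
    rintro _ ⟨x, rfl⟩
    exact ⟨⟨x, preimageAlong_mono hRV x.2⟩, (hf₁e _).trans (hf₀e x).symm⟩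
  have hXT : X' ≤ T' := range_le_base he₁
  have hXS : X' ≤ S' := hXT.trans h.hT'
  have hΘQ : ∀ x : ↥(preimageAlong θ Q'),
      Θ ⟨x, preimageAlong_mono hQX x.2⟩ = (a x : ↥(preimageAlong θ Q')) := fun x => by
    obtain ⟨y, hy⟩ := hf₀r.ge x.2
    have hyV : (y : Ω) ∈ preimageAlong θ V' := preimageAlong_mono hRV y.2
    have hxy : (x : Ω) = f₁ ⟨y, hyV⟩ := hy.symm.trans ((hf₀e y).trans (hf₁e ⟨(y : Ω), hyV⟩).symm)
    have hm : f₁' ⟨x, preimageAlong_mono hQX x.2⟩ = y := by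
      rw [show (⟨(x : Ω), preimageAlong_mono hQX x.2⟩ : ↥(preimageAlong θ X')) =
        ⟨f₁ ⟨y, hyV⟩, hr₁.le ⟨_, rfl⟩⟩ from Subtype.ext hxy, hl₁]
    rw [hΘe, hg₁e]
    have hwy : wV ⟨y, hyV⟩ = ((w ⟨y, preimageAlong_mono hlt.le y.2⟩ : ↥(preimageAlong θ W')) : Ω) :=
      (hwVe _).trans (hwhe _)
    have h3 := ha y y.2 (preimageAlong_mono (le_normalizerIn hR₁) y.2) (hwy ▸ hwN _)
      (hf₀e y ▸ hy.symm ▸ x.2)
    rw [show (⟨ι₁ ⟨(y : Ω), preimageAlong_mono (le_normalizerIn hR₁) y.2⟩, hf₀e y ▸ hy.symm ▸ x.2⟩ :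
      ↥(preimageAlong θ Q')) = x from Subtype.ext ((hf₀e y).symm.trans hy)] at h3
    rw [h3]
    refine congrArg ι₂ (Subtype.ext ?_)
    refine Eq.trans ?_ hwy
    exact congrArg wV (Subtype.ext hm)
  obtain ⟨e, he, hie, hre⟩ := h.lifted_ind hXS hΘ
  have hΘN : ∀ x, Θ x ∈ normalizerIn S (preimageAlong θ Q') := fun x => by
    rw [hΘe, hg₁e]
    refine ⟨apply_mem hι₂.1.1 _, (apply_mem_normalizerIn hι₂.1 (preimageAlong_mono (le_normalizerIn hR₂)) hι₂.2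
      ⟨_, hwN _⟩ ?_).2⟩
    exact ((mem_normalizerIn_preimage h.hr (hR₂.trans h.hT') ⟨_, (preimageAlong_le θ _) (hwN _)⟩).1
      ⟨h.hT' (mem_preimageAlong.1 (hwN _)).2.1, (mem_preimageAlong.1 (hwN _)).2.2⟩).2
  have hval : ∀ y, e y ∈ normalizerIn T' Q' := fun y => by
    obtain ⟨x, rfl⟩ := h.proj_surjective hXS y
    refine ⟨apply_mem he _, ?_⟩
    rw [hie]
    exact ((mem_normalizerIn_preimage h.hr (hQT.trans h.hT') ⟨Θ x, apply_mem hΘ.1 x⟩).2 (hΘN x)).2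
  have hstab : ∀ y : X', (y : Ω') ∈ Q' → e y ∈ Q' := fun y hy => by
    obtain ⟨x, hx⟩ := h.proj_surjective (hQT.trans h.hT') ⟨(y : Ω'), hy⟩
    rw [show y = proj θ X' ⟨x, preimageAlong_mono hQX x.2⟩ from Subtype.ext (congrArg Subtype.val hx :).symm,
      hie]
    exact (mem_preimageAlong.1 (hΘQ x ▸ (a x).2)).2
  obtain ⟨η, hη, hiη, b, hb, hbe⟩ := h.exists_lift_normalizing hQ hQX hXN he hval hstab
  obtain ⟨e', he', hi', hrη⟩ := h.lifted_ind hXS hη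
  have hee : e' = e := MonoidHom.ext fun y => by
    obtain ⟨x, rfl⟩ := h.proj_surjective hXS y
    rw [hi', hiη]
  rw [hee] at hrη
  obtain ⟨ηi, hηi, hηir, hlη, hrη'⟩ := exists_inv hη hrη
  haveI := finite_sub (preimageAlong_le θ X')
  obtain ⟨κ₀, hκ₀, hκ₀e⟩ := exists_comp hΘ hηi fun x => hre.le ⟨x, rfl⟩
  have hκr : κ₀.range = preimageAlong θ X' :=
    range_eq_of_mem hκ₀ (fun x => hκ₀e x ▸ hηir.le ⟨_, rfl⟩) le_rfl
  have hκres : Restr (preimageAlong_mono hQX) (homEquiv hκ₀ hκr) (b⁻¹ * a) := fun x => by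
    rw [homEquiv_coe, hκ₀e]
    have h4 : Θ (Subgroup.inclusion (preimageAlong_mono hQX) x) =
        η ⟨((b⁻¹ * a) x : ↥(preimageAlong θ Q')), preimageAlong_mono hQX ((b⁻¹ * a) x).2⟩ := by
      rw [hbe, MulAut.mul_apply, MulAut.apply_inv_self]
      exact hΘQ x
    refine Eq.trans (congrArg ηi (Subtype.ext h4)) (hlη ⟨_, preimageAlong_mono hQX ((b⁻¹ * a) x).2⟩ ?_)
    exact hrη.le ⟨_, rfl⟩
  have hcX : E'.IsCentric X' := isCentric_of_le hQ.centric hQX hXT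
  have hcard : Nat.card Q' < Nat.card X' := by
    rw [show Nat.card X' = Nat.card V' from card_range he₁, isConj_card h₁]
    haveI := finite_sub (hVW.trans hWT)
    exact lt_of_not_ge fun hh => hltV.ne (Subgroup.eq_of_le_of_card_ge hRV hh)
  have h5 := h.restr_Aut hcX hQX hκres (ih X' hcX hcard (homEquiv_mem_autGroup hκ₀ hκr))
  have h6 := mul_mem hb h5
  rwa [mul_inv_cancel_left] at h6

/-- Generators satisfy the predicate. -/
theorem pred_gen {Q' : Subgroup Ω'} (hQ : Good F θ E' Q') (hne : Q' ≠ T')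
    (ih : ∀ V' : Subgroup Ω', E'.IsCentric V' → Nat.card Q' < Nat.card V' →
      (lifted F θ E' p).autGroup (preimageAlong θ V') ≤ Aut F θ E' p V')
    {W' : Subgroup Ω'} (hW : E'.IsCentric W') {w : MulAut ↥(preimageAlong θ W')} (hw : w ∈ Aut F θ E' p W')
    {X : Subgroup Ω} (hX : X ≤ preimageAlong θ W') {φ : X →* Ω}
    (hφ : ∀ x : X, φ x = ((w ⟨x, hX x.2⟩ : ↥(preimageAlong θ W')) : Ω)) : Pred F θ E' p Q' φ := by
  intro R₁' R₂' h₁ h₂ hle hmap ι₁ ι₂ hι₁ hι₂ a ha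
  haveI := h.finiteT'
  have hR₁ : R₁' ≤ T' := isConj_le_left h₁
  have hRW : R₁' ≤ W' := h.le_of_preimage_le (hR₁.trans h.hT') (hle.trans hX)
  rcases lt_or_eq_of_le hRW with hlt | heq
  · exact h.pred_gen_lt hQ ih hW hw h₁ h₂ hlt (fun x => by have := hmap x; rw [hφ] at this; exact this) hι₁ hι₂
      fun x hx h₁' h₂' hq => by
        rw [ha x hx h₁' ((hφ _).symm ▸ h₂') hq]
        exact congrArg ι₂ (Subtype.ext (hφ _))
  subst heq
  haveI := finite_sub hR₁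
  have hR₂ : R₂' ≤ T' := isConj_le_left h₂
  obtain rfl : R₁' = R₂' := by
    haveI := finite_sub hR₂
    refine Subgroup.eq_of_le_of_card_ge ?_ (le_of_eq ((isConj_card h₂).symm.trans (isConj_card h₁)))
    refine h.le_of_preimage_le (hR₁.trans h.hT') fun y hy => ?_
    obtain ⟨x, hx⟩ := w.surjective ⟨y, hy⟩
    have h3 := hmap ⟨x, x.2⟩
    rw [hφ] at h3
    have hxy : ((w x : ↥(preimageAlong θ R₁')) : Ω) = y := congrArg Subtype.val hx
    rw [← hxy]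
    exact h3
  have hlt : R₁' < T' := lt_of_le_of_ne hR₁ fun he => hne (Subgroup.eq_of_le_of_card_ge hQ.centric.1
    (he ▸ (isConj_card h₁).ge))
  obtain ⟨f₁, hf₁, hr₁, hf₁e⟩ := h.conn_restrict hR₁ hι₁
  obtain ⟨c, hc⟩ := h.exists_transfer hQ h₁ h₁
    (subtype_mem (lifted F θ E' p) (preimageAlong_mono hR₁ : preimageAlong θ R₁' ≤ preimageAlong θ T'))
    le_rfl (fun x => x.2) hι₁ hι₂
  have hTc : E'.IsCentric T' := ⟨le_rfl, fun Q ⟨ψ, hψ, hr⟩ => by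
    have hQT' : Q = T' := hr.symm.trans (range_eq_of_mem hψ (fun x => apply_mem hψ x) le_rfl)
    rw [hQT']
    exact centralizerIn_le T'⟩
  have hcA : c ∈ Aut F θ E' p Q' :=
    h.pred_gen_lt hQ ih hTc (one_mem _) h₁ h₁ hlt (fun x => x.2) hι₁ hι₂
      fun x hx h₁' h₂' hq => hc x hx h₁' h₂' hq
  have ha₁ := h.congr_mem_Aut hR₁ (hQ.centric.1.trans h.hT') hf₁.1 hr₁ hw
  have hae : a = c * MulAut.congr (homEquiv hf₁.1 hr₁) w := by
    refine MulEquiv.ext fun y => ?_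
    obtain ⟨x, rfl⟩ := (homEquiv hf₁.1 hr₁).surjective y
    apply Subtype.ext
    have hx₁ : (x : Ω) ∈ preimageAlong θ (normalizerIn T' R₁') := preimageAlong_mono (le_normalizerIn hR₁) x.2
    have hwx : ((w x : ↥(preimageAlong θ R₁')) : Ω) ∈ preimageAlong θ (normalizerIn T' R₁') :=
      preimageAlong_mono (le_normalizerIn hR₁) (w x).2
    have hq₁ : ι₁ ⟨x, hx₁⟩ ∈ preimageAlong θ Q' := hf₁e x ▸ hr₁.le ⟨x, rfl⟩
    have hq₂ : ι₁ ⟨_, hwx⟩ ∈ preimageAlong θ Q' := hf₁e (w x) ▸ hr₁.le ⟨w x, rfl⟩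
    have hφw : φ ⟨x, hle x.2⟩ = ((w x : ↥(preimageAlong θ R₁')) : Ω) := hφ _
    rw [show homEquiv hf₁.1 hr₁ x = ⟨ι₁ ⟨x, hx₁⟩, hq₁⟩ from Subtype.ext (hf₁e x),
      ha x x.2 hx₁ (hφw.symm ▸ hwx) hq₁, MulAut.mul_apply,
      show MulAut.congr (homEquiv hf₁.1 hr₁) w ⟨ι₁ ⟨x, hx₁⟩, hq₁⟩ = ⟨ι₁ ⟨_, hwx⟩, hq₂⟩ from Subtype.ext (by
        rw [show (⟨ι₁ ⟨x, hx₁⟩, hq₁⟩ : ↥(preimageAlong θ Q')) = homEquiv hf₁.1 hr₁ x from
          Subtype.ext (hf₁e x).symm, congr_apply_map, hf₁e])]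
    exact (congrArg ι₂ (Subtype.ext hφw)).trans (hc _ (w x).2 hwx hwx hq₂).symm
  rw [hae]
  exact mul_mem hcA ha₁

/-- The automorphism group of the lifted system at a good member. -/
theorem autGroup_good {Q' : Subgroup Ω'} (hQ : Good F θ E' Q') (hne : Q' ≠ T')
    (ih : ∀ V' : Subgroup Ω', E'.IsCentric V' → Nat.card Q' < Nat.card V' →
      (lifted F θ E' p).autGroup (preimageAlong θ V') ≤ Aut F θ E' p V') :
    (lifted F θ E' p).autGroup (preimageAlong θ Q') ≤ Aut F θ E' p Q' := by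
  haveI := h.finiteT'
  have hTc : E'.IsCentric T' := ⟨le_rfl, fun Q ⟨ψ, hψ, hr⟩ => by
    have hQT' : Q = T' := hr.symm.trans (range_eq_of_mem hψ (fun x => apply_mem hψ x) le_rfl)
    rw [hQT']
    exact centralizerIn_le T'⟩
  let G : FusionSystem (preimageAlong θ T') :=
    { Hom := fun X => {φ | φ ∈ (lifted F θ E' p).Hom X ∧ Pred F θ E' p Q' φ}
      le_of_mem := fun hh => (lifted F θ E' p).le_of_mem hh.1
      injective_of_mem := fun hh => (lifted F θ E' p).injective_of_mem hh.1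
      conj_mem := fun {X g} hX hg => ⟨(lifted F θ E' p).conj_mem hX hg,
        h.pred_gen hQ hne ih hTc (w := MulAut.conj ⟨g, hg⟩)
          (h.autT_le_Aut le_rfl (mem_autInducedBy.2 ⟨g, hg, fun _ => rfl⟩)) hX fun _ => rfl⟩
      comp_mem := by
        rintro X Y φ ψ ⟨hφ, hPφ⟩ ⟨hψ, hPψ⟩ hm
        refine ⟨(lifted F θ E' p).comp_mem hφ hψ hm, fun R₁' R₃' h₁ h₃ hle hmap ι₁ ι₃ hι₁ hι₃ a ha => ?_⟩
        obtain ⟨g, hg, hge⟩ := exists_restrict hφ hle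
        obtain ⟨e, he, hi, hr⟩ := h.lifted_ind ((isConj_le_left h₁).trans h.hT') hg
        have h₂ : E'.IsConj e.range Q' := isConj_trans (isConj_symm ⟨e, he, rfl⟩) h₁
        obtain ⟨ι₂, hι₂⟩ := h.exists_conn hQ h₂
        have hR₂ : preimageAlong θ e.range ≤ Y := by
          rw [← hr]; rintro _ ⟨x, rfl⟩; rw [hge]; exact hm _
        have hmap₁ : ∀ x : ↥(preimageAlong θ R₁'), φ ⟨x, hle x.2⟩ ∈ preimageAlong θ e.range := fun x => by
          rw [← hr]; exact ⟨x, hge x⟩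
        have hmap₂ : ∀ y : ↥(preimageAlong θ e.range), ψ ⟨y, hR₂ y.2⟩ ∈ preimageAlong θ R₃' := fun y => by
          obtain ⟨x, hx⟩ := hr.ge y.2
          rw [hge] at hx
          have h4 := hmap x
          exact (congrArg ψ (Subtype.ext hx.symm) : ψ ⟨y, hR₂ y.2⟩ = ψ ⟨φ ⟨x, hle x.2⟩, hm _⟩).symm ▸ h4
        obtain ⟨a₁, ha₁⟩ := h.exists_transfer hQ h₁ h₂ hφ hle hmap₁ hι₁ hι₂
        obtain ⟨a₂, ha₂⟩ := h.exists_transfer hQ h₂ h₃ hψ hR₂ hmap₂ hι₂ hι₃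
        have m₁ := hPφ R₁' _ h₁ h₂ hle hmap₁ ι₁ ι₂ hι₁ hι₂ a₁ ha₁
        have m₂ := hPψ _ R₃' h₂ h₃ hR₂ hmap₂ ι₂ ι₃ hι₂ hι₃ a₂ ha₂
        suffices hae : a = a₂ * a₁ by rw [hae]; exact mul_mem m₂ m₁
        obtain ⟨f₁, hf₁, hf₁r, hf₁e⟩ := h.conn_restrict (isConj_le_left h₁) hι₁
        refine MulEquiv.ext fun z => ?_
        obtain ⟨x, hx⟩ := hf₁r.ge z.2
        apply Subtype.ext
        have hx₁ : (x : Ω) ∈ preimageAlong θ (normalizerIn T' R₁') :=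
          preimageAlong_mono (le_normalizerIn (isConj_le_left h₁)) x.2
        have hq : ι₁ ⟨x, hx₁⟩ ∈ preimageAlong θ Q' := hf₁e x ▸ hf₁r.le ⟨x, rfl⟩
        have hx₂ : φ ⟨x, hle x.2⟩ ∈ preimageAlong θ (normalizerIn T' e.range) :=
          preimageAlong_mono (le_normalizerIn (isConj_le_left h₂)) (hmap₁ x)
        have hx₃ : ψ ⟨φ ⟨x, hle x.2⟩, hm _⟩ ∈ preimageAlong θ (normalizerIn T' R₃') :=
          preimageAlong_mono (le_normalizerIn (isConj_le_left h₃)) (hmap x)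
        have e₁ := ha₁ x x.2 hx₁ hx₂ hq
        have hq₂ : ι₂ ⟨φ ⟨x, hle x.2⟩, hx₂⟩ ∈ preimageAlong θ Q' := e₁ ▸ SetLike.coe_mem _
        have e₂ := ha₂ _ (hmap₁ x) hx₂ hx₃ hq₂
        rw [show z = ⟨ι₁ ⟨x, hx₁⟩, hq⟩ from Subtype.ext (hx.symm.trans (hf₁e x)), ha x x.2 hx₁ hx₃ hq,
          MulAut.mul_apply,
          show a₁ ⟨ι₁ ⟨x, hx₁⟩, hq⟩ = ⟨ι₂ ⟨φ ⟨x, hle x.2⟩, hx₂⟩, hq₂⟩ from Subtype.ext e₁, e₂]
        rfl
      inv_mem := by
        rintro X φ ⟨hφ, hPφ⟩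
        obtain ⟨ψ, hψ, hψe⟩ := (lifted F θ E' p).inv_mem hφ
        refine ⟨ψ, ⟨hψ, fun R₂' R₁' h₂ h₁ hle hmap ι₂ ι₁ hι₂ hι₁ a ha => ?_⟩, hψe⟩
        haveI := finite_sub (preimageAlong_le θ R₁')
        obtain ⟨g, hg, hge⟩ := exists_restrict hψ hle
        have hgr : g.range = preimageAlong θ R₁' := range_eq_of_mem hg (fun y => hge y ▸ hmap y)
          ((h.card_preimage_of_conj hQ h₁).symm.trans (h.card_preimage_of_conj hQ h₂)).le
        have hpre : ∀ (z : Ω) (hz : z ∈ φ.range), ∃ x : X, φ x = z ∧ ψ ⟨z, hz⟩ = x := by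
          rintro _ ⟨x, rfl⟩; exact ⟨x, rfl, hψe x⟩
        have hleX : preimageAlong θ R₁' ≤ X := by
          rw [← hgr]
          rintro _ ⟨y, rfl⟩
          obtain ⟨x, -, hx⟩ := hpre y (hle y.2)
          rw [hge, hx]; exact x.2
        have hφg : ∀ y : ↥(preimageAlong θ R₂'), φ ⟨g y, hleX (hgr.le ⟨y, rfl⟩)⟩ = y := fun y => by
          obtain ⟨x, hx₀, hx⟩ := hpre y (hle y.2)
          rw [show (⟨g y, hleX (hgr.le ⟨y, rfl⟩)⟩ : X) = x from Subtype.ext ((hge y).trans hx), hx₀]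
        have hmap' : ∀ x : ↥(preimageAlong θ R₁'), φ ⟨x, hleX x.2⟩ ∈ preimageAlong θ R₂' := fun x => by
          obtain ⟨y, hy⟩ := hgr.ge x.2
          rw [show (⟨(x : Ω), hleX x.2⟩ : X) = ⟨g y, hleX (hgr.le ⟨y, rfl⟩)⟩ from Subtype.ext hy.symm, hφg]
          exact y.2
        obtain ⟨b, hb⟩ := h.exists_transfer hQ h₁ h₂ hφ hleX hmap' hι₁ hι₂
        have mb := hPφ R₁' R₂' h₁ h₂ hleX hmap' ι₁ ι₂ hι₁ hι₂ b hb
        suffices hab : a = b⁻¹ by rw [hab]; exact inv_mem mb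
        obtain ⟨f₂, hf₂, hf₂r, hf₂e⟩ := h.conn_restrict (isConj_le_left h₂) hι₂
        obtain ⟨f₁, hf₁, hf₁r, hf₁e⟩ := h.conn_restrict (isConj_le_left h₁) hι₁
        refine MulEquiv.ext fun z => b.injective ?_
        rw [MulAut.apply_inv_self]
        obtain ⟨y, hy⟩ := hf₂r.ge z.2
        have hy₂ : (y : Ω) ∈ preimageAlong θ (normalizerIn T' R₂') :=
          preimageAlong_mono (le_normalizerIn (isConj_le_left h₂)) y.2
        have hψy : ψ ⟨y, hle y.2⟩ ∈ preimageAlong θ (normalizerIn T' R₁') :=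
          preimageAlong_mono (le_normalizerIn (isConj_le_left h₁)) (hmap y)
        have hq : ι₂ ⟨y, hy₂⟩ ∈ preimageAlong θ Q' := hf₂e y ▸ hf₂r.le ⟨y, rfl⟩
        have e₁ := ha y y.2 hy₂ hψy hq
        have hgy : φ ⟨ψ ⟨y, hle y.2⟩, hleX (hmap y)⟩ = y :=
          (congrArg φ (Subtype.ext (hge y).symm)).trans (hφg y)
        have hq₁ : ι₁ ⟨ψ ⟨y, hle y.2⟩, hψy⟩ ∈ preimageAlong θ Q' := e₁ ▸ SetLike.coe_mem _
        have e₂ := hb _ (hmap y) hψy (hgy.symm ▸ hy₂) hq₁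
        apply Subtype.ext
        rw [show z = ⟨ι₂ ⟨y, hy₂⟩, hq⟩ from Subtype.ext (hy.symm.trans (hf₂e y)),
          show a ⟨ι₂ ⟨y, hy₂⟩, hq⟩ = ⟨ι₁ ⟨ψ ⟨y, hle y.2⟩, hψy⟩, hq₁⟩ from Subtype.ext e₁, e₂]
        exact congrArg ι₂ (Subtype.ext hgy) }
  have hG : Contains F θ E' p G := fun W' hW w hw => by
    have hle := preimageAlong_mono (θ := θ) hW.1
    exact (mem_autGroup hle).2 ⟨(mem_autGroup hle).1 (h.contains_lifted W' hW hw),
      h.pred_gen hQ hne ih hW hw le_rfl fun _ => rfl⟩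
  intro a ha
  have hQT : Q' ≤ T' := hQ.centric.1
  have hQN : Q' ≤ normalizerIn T' Q' := le_normalizerIn hQT
  obtain ⟨φ, hφ, -, hφe⟩ := exists_hom_of_aut (preimageAlong_mono hQT) ha
  have hid : Conn F θ E' p Q' Q' (preimageAlong θ (normalizerIn T' Q')).subtype := by
    refine ⟨subtype_mem _ (preimageAlong_mono (normalizerIn_le Q')), ?_⟩
    rw [Subgroup.map_subgroupOf_eq_of_le (preimageAlong_mono hQN)]
  refine (lifted_least hG _ hφ).2 Q' Q' (isConj_refl E' hQT) (isConj_refl E' hQT) le_rfl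
    (fun x => (hφe x).symm ▸ (a x).2) _ _ hid hid a fun x hx h₁ h₂ hq => ?_
  exact (hφe ⟨x, hx⟩).symm

/-- The automorphism groups of the lifted system on members. -/
theorem autGroup_lifted_le : ∀ R' : Subgroup Ω', E'.IsCentric R' →
    (lifted F θ E' p).autGroup (preimageAlong θ R') ≤ Aut F θ E' p R' := by
  haveI := h.finiteT'
  suffices hn : ∀ (n : ℕ) (R' : Subgroup Ω'), E'.IsCentric R' → Nat.card T' - Nat.card R' < n →
      (lifted F θ E' p).autGroup (preimageAlong θ R') ≤ Aut F θ E' p R' from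
    fun R' hc => hn _ R' hc (Nat.lt_succ_self _)
  intro n
  induction n with
  | zero => exact fun R' hc hn => absurd hn (Nat.not_lt_zero _)
  | succ n ihn =>
  intro R' hc hn
  rcases eq_or_ne R' T' with rfl | hne
  · -- the base of the subsystem
    have hcont : Contains F θ E' p
        { Hom := fun X => {φ | φ ∈ (lifted F θ E' p).Hom X ∧ ∀ hX : X = preimageAlong θ R',
            ∃ a ∈ Aut F θ E' p R', ∀ x : X, φ x = ((a ⟨x, hX ▸ x.2⟩ : ↥(preimageAlong θ R')) : Ω)}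
          le_of_mem := fun hh => (lifted F θ E' p).le_of_mem hh.1
          injective_of_mem := fun hh => (lifted F θ E' p).injective_of_mem hh.1
          conj_mem := fun {X g} hX hg => ⟨(lifted F θ E' p).conj_mem hX hg, fun hXT =>
            ⟨_, h.autT_le_Aut le_rfl (mem_autInducedBy.2 ⟨g, hg, fun _ => rfl⟩ :
              MulAut.conj (⟨g, hg⟩ : ↥(preimageAlong θ R')) ∈ _), fun x => rfl⟩⟩
          comp_mem := by
            rintro X Y φ ψ ⟨hφ, hPφ⟩ ⟨hψ, hPψ⟩ hm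
            refine ⟨(lifted F θ E' p).comp_mem hφ hψ hm, fun hX => ?_⟩
            subst hX
            have hY : Y = preimageAlong θ R' := by
              refine le_antisymm (src_le hψ) fun y hy => ?_
              obtain ⟨a, -, hae⟩ := hPφ rfl
              have h1 := hm (a⁻¹ ⟨y, hy⟩)
              rw [hae, MulAut.apply_inv_self] at h1
              exact h1
            obtain ⟨a, ha, hae⟩ := hPφ rfl
            obtain ⟨b, hb, hbe⟩ := hPψ hY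
            refine ⟨b * a, mul_mem hb ha, fun x => ?_⟩
            show ψ (φ.codRestrict Y hm x) = _
            rw [hbe, MulAut.mul_apply]
            exact congrArg (fun z => ((b z : ↥(preimageAlong θ R')) : Ω)) (Subtype.ext (hae x))
          inv_mem := by
            rintro X φ ⟨hφ, hPφ⟩
            obtain ⟨ψ, hψ, hψe⟩ := (lifted F θ E' p).inv_mem hφ
            refine ⟨ψ, ⟨hψ, fun hr => ?_⟩, hψe⟩
            haveI : Finite ↥(preimageAlong θ R') := finite_sub (preimageAlong_le θ R')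
            have hX : X = preimageAlong θ R' :=
              Subgroup.eq_of_le_of_card_ge (src_le hφ) (by rw [← card_range hφ, hr])
            obtain ⟨a, ha, hae⟩ := hPφ hX
            refine ⟨a⁻¹, inv_mem ha, ?_⟩
            rintro ⟨_, x, rfl⟩
            rw [hψe]
            refine (congrArg Subtype.val (?_ : (⟨(x : Ω), hX ▸ x.2⟩ : ↥(preimageAlong θ R')) = a⁻¹ ⟨φ x, _⟩) :)
            apply a.injective
            rw [MulAut.apply_inv_self]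
            exact Subtype.ext (hae x).symm } := by
      intro W' hW w hw
      have hle := preimageAlong_mono (θ := θ) hW.1
      refine (mem_autGroup hle).2 ⟨(mem_autGroup hle).1 (h.contains_lifted W' hW hw), fun hWT => ?_⟩
      obtain rfl : W' = R' := h.preimage_injective (hW.1.trans h.hT') h.hT' hWT
      exact ⟨w, hw, fun x => rfl⟩
    intro a ha
    obtain ⟨φ, hφ, -, hφe⟩ := exists_hom_of_aut le_rfl ha
    obtain ⟨b, hb, hbe⟩ := (lifted_least hcont _ hφ).2 rfl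
    rwa [show a = b from MulEquiv.ext fun x => Subtype.ext ((hφe x).symm.trans (hbe x))]
  obtain ⟨Q', hQ, hconj⟩ := h.exists_good hc
  have hcard : Nat.card Q' = Nat.card R' := isConj_card hconj
  have hneQ : Q' ≠ T' := fun he => hne (Subgroup.eq_of_le_of_card_ge hc.1 (he ▸ hcard).le)
  have hgood := h.autGroup_good hQ hneQ fun V' hV hlt => ihn V' hV (by
    have := Subgroup.card_le_of_le hV.1
    omega)
  obtain ⟨e, he, hre⟩ := hconj
  obtain ⟨φ, hφ, hi⟩ := h.exists_lifted he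
  obtain ⟨e', he', hi', hr'⟩ := h.lifted_ind (hc.1.trans h.hT') hφ
  have hee : e' = e := MonoidHom.ext fun y => by
    obtain ⟨x, rfl⟩ := h.proj_surjective (hc.1.trans h.hT') y
    rw [hi', hi]
  rw [hee, hre] at hr'
  intro a ha
  obtain ⟨ψ, hψ, hψr, hl, -⟩ := exists_inv hφ.1 hr'
  have h1 : MulAut.congr (homEquiv hφ.1 hr') a ∈ Aut F θ E' p Q' := hgood (congr_mem_autGroup hφ hr' ha)
  have h2 := h.congr_mem_Aut hQ.centric.1 (hc.1.trans h.hT') hψ hψr h1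
  rwa [congr_inv hφ.1 hr' hψ hψr hl] at h2

end Setup

end Cfsg.Agent.Lib.FS.CentralLift
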