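import Cfsg.Agent.Lib.FusionSystem.CentralLift.Automizer

/-!
Automorphisms inducing automorphisms of the normal subsystem centralise the kernel modulo its inner part.
-/

set_option autoImplicit false
set_option linter.style.haveILetI false
set_option linter.unusedSectionVars false
set_option maxHeartbeats 1000000

namespace Cfsg.Agent.Lib.FS.CentralLift

open Cfsg Cfsg.FusionSystem Cfsg.Agent.Lib.FS

variable {Ω : Type*} [Group Ω] {S : Subgroup Ω} {Ω' : Type*} [Group Ω'] {S' T' : Subgroup Ω'}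

/-- `a` restricts to `b`. -/
def Restr {P Q : Subgroup Ω} (hle : P ≤ Q) (a : MulAut Q) (b : MulAut P) : Prop :=
  ∀ x : P, ((a (Subgroup.inclusion hle x) : Q) : Ω) = ((b x : P) : Ω)

namespace Restr

variable {P Q : Subgroup Ω} {hle : P ≤ Q} {a a' : MulAut Q} {b b' : MulAut P}

theorem one : Restr hle (1 : MulAut Q) (1 : MulAut P) := fun _ => rfl

theorem mul (h : Restr hle a b) (h' : Restr hle a' b') : Restr hle (a * a') (b * b') := fun x => by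
  rw [MulAut.mul_apply, MulAut.mul_apply]
  rw [show a' (Subgroup.inclusion hle x) = Subgroup.inclusion hle (b' x) from Subtype.ext (h' x)]
  exact h _

theorem inv (h : Restr hle a b) : Restr hle a⁻¹ b⁻¹ := fun x => by
  have h1 : a (Subgroup.inclusion hle (b⁻¹ x)) = Subgroup.inclusion hle x :=
    Subtype.ext ((h _).trans (by rw [MulAut.apply_inv_self]; rfl))
  rw [← h1, MulAut.inv_apply_self]
  rfl

theorem pow (h : Restr hle a b) (n : ℕ) : Restr hle (a ^ n) (b ^ n) := by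
  induction n with
  | zero => rw [pow_zero, pow_zero]; exact one
  | succ n ih => rw [pow_succ, pow_succ]; exact ih.mul h

theorem unique (h₁ : Restr hle a b) (h₂ : Restr hle a b') : b = b' :=
  MulEquiv.ext fun x => Subtype.ext ((h₁ x).symm.trans (h₂ x))

theorem mem_autGroup {F : FusionSystem S} (h : Restr hle a b) (hQ : Q ≤ S) (ha : a ∈ F.autGroup Q) :
    b ∈ F.autGroup P := by
  obtain ⟨φ, hφ, -, he⟩ := exists_hom_of_aut hQ ha
  exact (Cfsg.Agent.Lib.FS.mem_autGroup (hle.trans hQ)).2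
    (mem_of_restrict hφ hle fun x => ((he _).trans (h x)).symm)

end Restr

variable [Finite S] {p : ℕ} [Fact p.Prime] {F : FusionSystem S} {θ : S →* Ω'} {F' : FusionSystem S'}
variable {E' : FusionSystem T'} (h : Setup F θ F' E' p)
include h

namespace Setup

/-- An automorphism stabilising a smaller quotient subgroup restricts to the preimage. -/
theorem exists_restr {R' V' : Subgroup Ω'} (hRV : R' ≤ V') {a : MulAut ↥(preimageAlong θ V')}
    {b' : MulAut V'} (hab : Rel θ a b') (hstab : ∀ y : V', (y : Ω') ∈ R' → ((b' y : V') : Ω') ∈ R') :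
    ∃ b : MulAut ↥(preimageAlong θ R'), Restr (preimageAlong_mono hRV) a b := by
  haveI := finite_sub (preimageAlong_le θ R')
  let f : ↥(preimageAlong θ R') →* ↥(preimageAlong θ R') :=
    ((preimageAlong θ V').subtype.comp
      (a.toMonoidHom.comp (Subgroup.inclusion (preimageAlong_mono hRV)))).codRestrict _ fun x =>
      mem_preimageAlong.2 ⟨preimageAlong_le θ V' (a _).2, by
        have h1 := hab (Subgroup.inclusion (preimageAlong_mono hRV) x)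
        have h2 := hstab (proj θ V' (Subgroup.inclusion (preimageAlong_mono hRV) x)) (mem_preimageAlong.1 x.2).2
        rw [h1] at h2
        exact h2⟩
  have hinj : Function.Injective f := fun x y e => by
    have h1 : a (Subgroup.inclusion (preimageAlong_mono hRV) x) = a (Subgroup.inclusion (preimageAlong_mono hRV) y) :=
      Subtype.ext (show ((f x : ↥(preimageAlong θ R')) : Ω) = f y from congrArg Subtype.val e)
    exact Subgroup.inclusion_injective _ (a.injective h1)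
  exact ⟨MulEquiv.ofBijective f ⟨hinj, Finite.injective_iff_surjective.1 hinj⟩, fun x => rfl⟩

theorem restr_TT {R' V' : Subgroup Ω'} (hRV : R' ≤ V') (hR' : R' ≤ T') {a : MulAut ↥(preimageAlong θ V')}
    {b : MulAut ↥(preimageAlong θ R')} (hres : Restr (preimageAlong_mono hRV) a b)
    (ha : a ∈ TT F θ T' V') : b ∈ TT F θ T' R' := by
  obtain ⟨haF, Q', hQ', φ, hφ, hr, hfull, hmem⟩ := ha
  obtain ⟨φ₁, hφ₁, he₁⟩ := exists_restrict hφ (preimageAlong_mono hRV)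
  obtain ⟨φ₁', hφ₁', -, hr₁⟩ := h.exists_ind (hR'.trans h.hT') hφ₁
  have hle : φ₁'.range ≤ T' := by
    rintro _ ⟨x, rfl⟩; exact h.scT'.2 R' hR' φ₁' hφ₁' x
  obtain ⟨t, ht, hte⟩ := mem_autInducedBy.1 hmem
  have h1 : MulAut.congr (homEquiv hφ₁ hr₁) b ∈
      autInducedBy (preimageAlong θ T') (preimageAlong θ φ₁'.range) := by
    refine mem_autInducedBy.2 ⟨t, ht, fun y => ?_⟩
    obtain ⟨x, rfl⟩ := (homEquiv hφ₁ hr₁).surjective y
    have h2 := hte (homEquiv hφ hr (Subgroup.inclusion (preimageAlong_mono hRV) x))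
    rw [congr_apply_map, homEquiv_coe] at h2
    rw [congr_apply_map, homEquiv_coe, he₁, he₁]
    refine Eq.trans (congrArg φ (Subtype.ext (hres x).symm)) ?_
    exact h2
  obtain ⟨ψ, hψ, hψr, hl, -⟩ := exists_inv hφ₁ hr₁
  have h3 := h.TT_congr hψ hψr (h.autT_subset_TT hle h1)
  rwa [congr_inv hφ₁ hr₁ hψ hψr hl] at h3

theorem restr_Ker {R' V' : Subgroup Ω'} (hRV : R' ≤ V') {a : MulAut ↥(preimageAlong θ V')}
    {b : MulAut ↥(preimageAlong θ R')} (hres : Restr (preimageAlong_mono hRV) a b)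
    (ha : a ∈ Ker F θ V') : b ∈ Ker F θ R' := by
  refine ⟨hres.mem_autGroup (preimageAlong_le θ V') ha.1, fun x => Subtype.ext ?_⟩
  have h1 := congrArg Subtype.val (ha.2 (Subgroup.inclusion (preimageAlong_mono hRV) x))
  refine h1.trans ?_
  exact proj_congr (hres x)

/-- The commutator claim at the base of the subsystem. -/
theorem cent_top (hfull : F.IsFullyNormalized (preimageAlong θ T')) {m : MulAut ↥(preimageAlong θ T')}
    (hm : m ∈ pre F θ E' T') {k : MulAut ↥(preimageAlong θ T')} (hk : k ∈ Ker F θ T') :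
    m * k * m⁻¹ * k⁻¹ ∈ Lsub h (le_refl T') := by
  haveI := h.finite'
  obtain ⟨hmF, b, hb, hmb⟩ := hm
  obtain ⟨γ, hγ, hγT, hγC⟩ := h.hE.2 b hb
  have hTW : T' ≤ (T' ⊔ centralizerIn S' T') := le_sup_left
  have hWS : (T' ⊔ centralizerIn S' T') ≤ S' := sup_le h.hT' (centralizerIn_le T')
  obtain ⟨Γ, hΓ, hΓγ⟩ := h.exists_rel_lift hWS hγ
  have hstab : ∀ y : ↥(T' ⊔ centralizerIn S' T'), (y : Ω') ∈ T' → ((γ y : ↥(T' ⊔ centralizerIn S' T')) : Ω') ∈ T' := fun y hy => by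
    rw [show y = Subgroup.inclusion le_sup_left ⟨(y : Ω'), hy⟩ from rfl, hγT ⟨(y : Ω'), hy⟩]
    exact (b _).2
  obtain ⟨a₁, ha₁⟩ := h.exists_restr hTW hΓγ hstab
  have ha₁F := ha₁.mem_autGroup (preimageAlong_le θ (T' ⊔ centralizerIn S' T')) hΓ
  have ha₁b : Rel θ a₁ b := fun x => Subtype.ext (by
    have h1 := congrArg Subtype.val (hΓγ (Subgroup.inclusion (preimageAlong_mono hTW) x))
    rw [proj_congr (θ := θ) (y := a₁ x) (ha₁ x)] at h1
    rw [← h1]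
    exact (hγT _).symm)
  have hk0 : m⁻¹ * a₁ ∈ Ker F θ T' := ⟨mul_mem (inv_mem hmF) ha₁F, by simpa using hmb.inv.mul ha₁b⟩
  have e1 : m * k * m⁻¹ = a₁ * k * a₁⁻¹ := by
    have hc := h.ker_comm hk0 hk
    calc m * k * m⁻¹ = m * (k * (m⁻¹ * a₁)) * (m⁻¹ * a₁)⁻¹ * m⁻¹ := by group
      _ = m * ((m⁻¹ * a₁) * k) * (m⁻¹ * a₁)⁻¹ * m⁻¹ := by rw [hc]
      _ = _ := by group
  have hdK : m * k * m⁻¹ * k⁻¹ ∈ Ker F θ T' :=
    mul_mem (h.conj_mem_Ker h.hT' hmF hk) (inv_mem hk)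
  refine ⟨hdK, h.autT_subset_TT le_rfl ?_⟩
  obtain ⟨s, hs, hse⟩ := mem_autInducedBy.1 (h.ker_le_autS h.hT' hfull hk)
  have hsC : θ ⟨s, hs⟩ ∈ centralizerIn S' T' := by
    refine ⟨h.hr.le ⟨_, rfl⟩, fun y hy => ?_⟩
    obtain ⟨x, hx⟩ := h.proj_surjective h.hT' ⟨y, hy⟩
    have h1 := congrArg Subtype.val (hk.2 x)
    rw [MulAut.one_apply, proj_coe, proj_coe] at h1
    have hy' : θ ⟨(x : Ω), preimageAlong_le θ T' x.2⟩ = y := congrArg Subtype.val hx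
    rw [show (⟨((k x : ↥(preimageAlong θ T')) : Ω), preimageAlong_le θ T' (k x).2⟩ : S) =
      ⟨s, hs⟩ * ⟨(x : Ω), preimageAlong_le θ T' x.2⟩ * ⟨s, hs⟩⁻¹ from Subtype.ext (hse x), map_mul, map_mul,
      map_inv, hy'] at h1
    exact eq_mul_inv_iff_mul_eq.1 h1
  have hsW : s ∈ preimageAlong θ (T' ⊔ centralizerIn S' T') := mem_preimageAlong.2 ⟨hs, (le_sup_right : _ ≤ (T' ⊔ centralizerIn S' T')) hsC⟩
  set u : Ω := ((Γ ⟨s, hsW⟩ : ↥(preimageAlong θ (T' ⊔ centralizerIn S' T'))) : Ω) * s⁻¹ with hu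
  have huT : u ∈ preimageAlong θ T' := by
    refine mem_preimageAlong.2 ⟨S.mul_mem (preimageAlong_le θ (T' ⊔ centralizerIn S' T') (Γ _).2) (S.inv_mem hs), ?_⟩
    have hz := hγC ⟨θ ⟨s, hs⟩, (le_sup_right : _ ≤ (T' ⊔ centralizerIn S' T')) hsC⟩ hsC
    set z : Ω' := (θ ⟨s, hs⟩)⁻¹ * ((γ ⟨θ ⟨s, hs⟩, (le_sup_right : _ ≤ (T' ⊔ centralizerIn S' T')) hsC⟩ : ↥(T' ⊔ centralizerIn S' T')) : Ω') with hzdef
    have h1 : θ ⟨((Γ ⟨s, hsW⟩ : ↥(preimageAlong θ (T' ⊔ centralizerIn S' T'))) : Ω), preimageAlong_le θ (T' ⊔ centralizerIn S' T') (Γ _).2⟩ = θ ⟨s, hs⟩ * z :=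
      (congrArg Subtype.val (hΓγ ⟨s, hsW⟩)).symm.trans (by rw [hzdef, mul_inv_cancel_left]; rfl)
    rw [show (⟨u, S.mul_mem (preimageAlong_le θ (T' ⊔ centralizerIn S' T') (Γ _).2) (S.inv_mem hs)⟩ : S) =
      ⟨((Γ ⟨s, hsW⟩ : ↥(preimageAlong θ (T' ⊔ centralizerIn S' T'))) : Ω), preimageAlong_le θ (T' ⊔ centralizerIn S' T') (Γ _).2⟩ * ⟨s, hs⟩⁻¹ from
      Subtype.ext rfl, map_mul, map_inv, h1, ← hsC.2 z hz.1, mul_inv_cancel_right]
    exact hz.1
  refine mem_autInducedBy.2 ⟨u, huT, fun y => ?_⟩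
  rw [e1, hu]
  set i := Subgroup.inclusion (preimageAlong_mono (θ := θ) hTW)
  have h2 : ∀ z : ↥(preimageAlong θ T'), ((a₁ z : _) : Ω) = (Γ (i z) : ↥(preimageAlong θ (T' ⊔ centralizerIn S' T'))) := fun z => (ha₁ z).symm
  rw [MulAut.mul_apply, MulAut.mul_apply, MulAut.mul_apply, h2]
  rw [show i (k (a₁⁻¹ (k⁻¹ y))) = ⟨s, hsW⟩ * i (a₁⁻¹ (k⁻¹ y)) * ⟨s, hsW⟩⁻¹ from Subtype.ext (hse _), map_mul,
    map_mul, map_inv, Subgroup.coe_mul, Subgroup.coe_mul, Subgroup.coe_inv,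
    show ((Γ (i (a₁⁻¹ (k⁻¹ y))) : ↥(preimageAlong θ (T' ⊔ centralizerIn S' T'))) : Ω) = ((k⁻¹ y : ↥(preimageAlong θ T')) : Ω) by
      rw [← h2, MulAut.apply_inv_self]]
  have h4 := hse (k⁻¹ y)
  rw [MulAut.apply_inv_self] at h4
  rw [h4]
  group

/-- The quadratic step for `R' < T'`. -/
theorem cent_step {R' : Subgroup Ω'} (hc : E'.IsCentric R') (hlt : R' < T')
    (ih : ∀ (V' : Subgroup Ω') (hV : E'.IsCentric V'), R' < V' → ∀ a ∈ pre F θ E' V', ∀ k ∈ Ker F θ V',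
      a * k * a⁻¹ * k⁻¹ ∈ Lsub h hV.1)
    (hfull : F.IsFullyNormalized (preimageAlong θ R')) {m : MulAut ↥(preimageAlong θ R')}
    (hm : m ∈ pre F θ E' R')
    (hnorm : ∀ x ∈ autInducedBy S (preimageAlong θ R'), x ∈ pre F θ E' R' →
      m * x * m⁻¹ ∈ autInducedBy S (preimageAlong θ R'))
    {k : MulAut ↥(preimageAlong θ R')} (hk : k ∈ Ker F θ R') :
    m * (m * k * m⁻¹ * k⁻¹) * m⁻¹ * (m * k * m⁻¹ * k⁻¹)⁻¹ ∈ Lsub h hc.1 := by
  haveI := h.finite'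
  haveI := h.finiteT'
  have hR' : R' ≤ T' := hc.1
  have hRS : R' ≤ S' := hR'.trans h.hT'
  set U' : Subgroup Ω' := normalizerIn T' R' with hU'
  have hRU : R' ≤ U' := le_normalizerIn hR'
  have hUT : U' ≤ T' := normalizerIn_le R'
  have hlt' : R' < U' := FusionP3.Induction.lt_normalizerIn h.pgroupT' hlt
  have hUc : E'.IsCentric U' := isCentric_of_le hc hRU hUT
  haveI := finite_sub hUT
  have hRfull : E'.IsFullyNormalized R' := h.fullE hR' (h.full_of_full hRS hfull)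
  obtain ⟨hmF, b, hb, hmb⟩ := hm
  have hbnorm : ∀ g ∈ U', ∃ g₁ ∈ T', ∀ (y : R') (hy : g * (y : Ω') * g⁻¹ ∈ R'),
      ((b ⟨g * y * g⁻¹, hy⟩ : R') : Ω') = g₁ * (b y : R') * g₁⁻¹ := by
    intro g hg
    obtain ⟨t, rfl⟩ := h.hr.ge (h.hT' hg.1)
    have htN : (t : Ω) ∈ normalizerIn S (preimageAlong θ R') :=
      (mem_normalizerIn_preimage h.hr hRS t).1 ⟨h.hT' hg.1, hg.2⟩
    set w : MulAut ↥(preimageAlong θ R') := (preimageAlong θ R').normalizerMonoidHom ⟨t, htN.2⟩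
    have hwT : w ∈ autInducedBy (preimageAlong θ T') (preimageAlong θ R') :=
      mem_autInducedBy.2 ⟨t, mem_preimageAlong.2 ⟨t.2, hg.1⟩, fun _ => rfl⟩
    obtain ⟨s, hs, hse⟩ := mem_autInducedBy.1 (hnorm w (h.autT_le_autS R' hwT) (h.autT_le_pre hR' hwT))
    obtain ⟨c, hc', hce⟩ := h.rel_conj hRS (s := t) (a := w) fun _ => rfl
    obtain ⟨c₁, hc₁, hc₁e⟩ := h.rel_conj hRS (s := ⟨s, hs⟩) hse
    have heq : c₁ = b * c * b⁻¹ := h.rel_unique hRS hc₁ ((hmb.mul hc').mul hmb.inv)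
    have hcE : c ∈ E'.autGroup R' := autInducedBy_le_autGroup E' hR' (mem_autInducedBy.2 ⟨_, hg.1, hce⟩)
    obtain ⟨g₁, hg₁, hg₁e⟩ := mem_autInducedBy.1 (h.autS_inf_le hR' hRfull
      (heq ▸ mul_mem (mul_mem hb hcE) (inv_mem hb)) (mem_autInducedBy.2 ⟨_, h.hr.le ⟨_, rfl⟩, hc₁e⟩))
    refine ⟨g₁, hg₁, fun y hy => ?_⟩
    rw [← hg₁e (b y), heq, MulAut.mul_apply, MulAut.mul_apply, MulAut.inv_apply_self]
    exact congrArg (fun z => ((b z : R') : Ω')) (Subtype.ext (hce y).symm)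
  obtain ⟨e, he, hee⟩ := FusionP3.Induction.exists_extend_aut
    (receptive_of_fullyNormalized h.pgroupT' h.esat hRfull) (le_refl U') hb hbnorm
  have hR'U : (R'.subgroupOf U').map e = R' := by
    ext y
    constructor
    · rintro ⟨x, hx, rfl⟩
      exact (congrArg (· ∈ R') (hee x hx x.2)).mpr (b _).2
    · intro hy
      obtain ⟨x, hx⟩ := b.surjective ⟨y, hy⟩
      exact ⟨⟨x, hRU x.2⟩, x.2, (hee x x.2 _).trans (congrArg Subtype.val hx)⟩
  have her : e.range = U' := range_eq_of_mem he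
    (fun g => apply_mem_normalizerIn he hRU hR'U g g.2.2) le_rfl
  set eA : MulAut U' := homEquiv he her
  have heA : eA ∈ E'.autGroup U' := homEquiv_mem_autGroup he her
  obtain ⟨β, hβ, hβe⟩ := h.exists_rel_lift (hUT.trans h.hT') (FusionP3.GT.autGroup_mono h.sub' hUT heA)
  have hβpre : β ∈ pre F θ E' U' := ⟨hβ, eA, heA, hβe⟩
  have hstab : ∀ y : U', (y : Ω') ∈ R' → ((eA y : U') : Ω') ∈ R' := fun y hy =>
    (congrArg (· ∈ R') (hee y hy y.2)).mpr (b _).2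
  obtain ⟨b₁, hb₁⟩ := h.exists_restr hRU hβe hstab
  have hb₁F := hb₁.mem_autGroup (preimageAlong_le θ U') hβ
  have hb₁b : Rel θ b₁ b := fun x => Subtype.ext (by
    have h1 := congrArg Subtype.val (hβe (Subgroup.inclusion (preimageAlong_mono hRU) x))
    rw [proj_congr (θ := θ) (y := b₁ x) (hb₁ x)] at h1
    rw [← h1]
    exact (hee _ (mem_preimageAlong.1 x.2).2 _).symm)
  have hk0 : m⁻¹ * b₁ ∈ Ker F θ R' := ⟨mul_mem (inv_mem hmF) hb₁F, by simpa using hmb.inv.mul hb₁b⟩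
  have econj : ∀ j ∈ Ker F θ R', m * j * m⁻¹ = b₁ * j * b₁⁻¹ := fun j hj => by
    have hc := h.ker_comm hk0 hj
    calc m * j * m⁻¹ = m * (j * (m⁻¹ * b₁)) * (m⁻¹ * b₁)⁻¹ * m⁻¹ := by group
      _ = m * ((m⁻¹ * b₁) * j) * (m⁻¹ * b₁)⁻¹ * m⁻¹ := by rw [hc]
      _ = _ := by group
  set d := m * k * m⁻¹ * k⁻¹ with hd
  have hdK : d ∈ Ker F θ R' := mul_mem (h.conj_mem_Ker hRS hmF hk) (inv_mem hk)
  -- the extension of `k`
  obtain ⟨s, hs, hse⟩ := mem_autInducedBy.1 (h.ker_le_autS hRS hfull hk)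
  have hsU : s ∈ normalizerIn S (preimageAlong θ U') := by
    refine (mem_normalizerIn_preimage h.hr (hUT.trans h.hT') ⟨s, hs⟩).1 ⟨h.hr.le ⟨_, rfl⟩, ?_⟩
    have hn : θ ⟨s, hs⟩ ∈ normalizerIn S' R' :=
      (mem_normalizerIn_preimage h.hr hRS ⟨s, hs⟩).2 ⟨hs, mem_normalizer_of_aut hse⟩
    refine mem_normalizer_of_conj_mem fun g hg => ⟨conj_mem_of_normalizer
      (stronglyClosed_le_normalizer h.scT' hn.1) hg.1, ?_⟩
    exact (Subgroup.normalizer (R' : Set Ω')).mul_mem ((Subgroup.normalizer (R' : Set Ω')).mul_mem hn.2 hg.2)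
      ((Subgroup.normalizer (R' : Set Ω')).inv_mem hn.2)
  set γ : MulAut ↥(preimageAlong θ U') := (preimageAlong θ U').normalizerMonoidHom ⟨s, hsU.2⟩
  have hγF : γ ∈ F.autGroup (preimageAlong θ U') :=
    autInducedBy_le_autGroup F (preimageAlong_le θ U') (mem_autInducedBy.2 ⟨s, hs, fun _ => rfl⟩)
  have hγk : Restr (preimageAlong_mono hRU) γ k := fun x => (hse x).symm
  set δ := β * γ * β⁻¹ * γ⁻¹ with hδ
  have hδpre : δ ∈ pre F θ E' U' := by
    have h1 := h.conj_mem_pre hUT hγF ((pre F θ E' U').inv_mem hβpre)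
    have h2 := (pre F θ E' U').mul_mem hβpre h1
    rwa [hδ, show β * γ * β⁻¹ * γ⁻¹ = β * (γ * β⁻¹ * γ⁻¹) by group]
  have hδpre₀ : δ ∈ F.autGroup (preimageAlong θ U') := hδpre.1
  have hδd : Restr (preimageAlong_mono hRU) δ d := by
    have h1 := ((hb₁.mul hγk).mul hb₁.inv).mul hγk.inv
    rw [← econj k hk] at h1
    exact h1
  obtain ⟨-, δ', hδ', hδδ'⟩ := hδpre
  obtain ⟨φδ, hφδ, -, hφδe⟩ := exists_hom_of_aut hUT hδ'
  obtain ⟨z, hzR, hzC, hzconj⟩ := exists_conj_of_agree_le h.pgroupT' h.esat hRU hc (subtype_mem E' hUT) hφδ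
    fun y hy => by
      obtain ⟨x, hx⟩ := h.proj_surjective hRS ⟨y, hy⟩
      have hxy : proj θ U' (Subgroup.inclusion (preimageAlong_mono hRU) x) = y :=
        Subtype.ext (congrArg Subtype.val hx :)
      rw [hφδe, ← hxy, hδδ']
      have h1 := hdK.2 x
      rw [MulAut.one_apply] at h1
      show ((proj θ U' (Subgroup.inclusion (preimageAlong_mono hRU) x) : U') : Ω') = _
      exact (proj_congr rfl).trans ((congrArg Subtype.val h1).trans (proj_congr (hδd x).symm))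
  obtain ⟨z₀, hz₀⟩ := h.hr.ge (hRS hzR)
  have hz₀R : (z₀ : Ω) ∈ preimageAlong θ R' := mem_preimageAlong.2 ⟨z₀.2, hz₀ ▸ hzR⟩
  set ζ : MulAut ↥(preimageAlong θ U') := MulAut.conj ⟨(z₀ : Ω), preimageAlong_mono hRU hz₀R⟩
  set ζ₁ : MulAut ↥(preimageAlong θ R') := MulAut.conj ⟨(z₀ : Ω), hz₀R⟩
  have hζres : Restr (preimageAlong_mono hRU) ζ ζ₁ := fun x => rfl
  have hζ₁L : ζ₁ ∈ Lsub h hR' := by
    refine ⟨⟨inn_le_autGroup F (preimageAlong_le θ R') ⟨_, rfl⟩, fun x => Subtype.ext ?_⟩,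
      h.autT_subset_TT hR' (mem_autInducedBy.2 ⟨z₀, preimageAlong_mono hR' hz₀R, fun _ => rfl⟩)⟩
    rw [MulAut.one_apply, MulAut.conj_apply, map_mul, map_mul, map_inv, Subgroup.coe_mul, Subgroup.coe_mul,
      Subgroup.coe_inv, eq_mul_inv_iff_mul_eq]
    have hzz : ((proj θ R' ⟨(z₀ : Ω), hz₀R⟩ : R') : Ω') = z := hz₀
    rw [hzz]
    exact hzC _ (proj θ R' x).2
  have hκ : ζ⁻¹ * δ ∈ Ker F θ U' := by
    refine ⟨mul_mem (inv_mem (inn_le_autGroup F (preimageAlong_le θ U') ⟨_, rfl⟩)) hδpre₀, ?_⟩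
    intro x
    apply Subtype.ext
    rw [MulAut.one_apply, MulAut.mul_apply, MulAut.conj_inv_apply, map_mul, map_mul, map_inv, Subgroup.coe_mul,
      Subgroup.coe_mul, Subgroup.coe_inv, ← hδδ' x]
    have h1 := hzconj (proj θ U' x)
    rw [hφδe] at h1
    have hzz : ((proj θ U' ⟨(z₀ : Ω), preimageAlong_mono hRU hz₀R⟩ : U') : Ω') = z := hz₀
    rw [hzz, h1]
    simp [mul_assoc]
  set κ := ζ⁻¹ * δ with hκdef
  set j := ζ₁⁻¹ * d with hjdef
  have hκj : Restr (preimageAlong_mono hRU) κ j := hζres.inv.mul hδd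
  have hj : j ∈ Ker F θ R' := h.restr_Ker hRU hκj hκ
  have hIH := ih U' hUc hlt' β ⟨hβ, eA, heA, hβe⟩ κ hκ
  have h3 : Restr (preimageAlong_mono hRU) (β * κ * β⁻¹ * κ⁻¹) (b₁ * j * b₁⁻¹ * j⁻¹) :=
    ((hb₁.mul hκj).mul hb₁.inv).mul hκj.inv
  rw [← econj j hj] at h3
  have hmj : m * j * m⁻¹ * j⁻¹ ∈ Lsub h hR' :=
    ⟨h.restr_Ker hRU h3 hIH.1, h.restr_TT hRU hR' h3 hIH.2⟩
  have hmζ : m * ζ₁ * m⁻¹ * ζ₁⁻¹ ∈ Lsub h hR' :=
    mul_mem (h.conj_mem_Lsub hR' hmF hζ₁L) (inv_mem hζ₁L)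
  have hdj : d = ζ₁ * j := by rw [hjdef, mul_inv_cancel_left]
  have h5 : m * d * m⁻¹ * d⁻¹ = (m * ζ₁ * m⁻¹ * ζ₁⁻¹) * (ζ₁ * (m * j * m⁻¹ * j⁻¹) * ζ₁⁻¹) := by
    rw [hdj]; group
  rw [h5]
  exact mul_mem hmζ (h.conj_mem_Lsub hR' hζ₁L.1.1 hmj)

/-- `pre` centralises `Ker` modulo its inner part. -/
theorem cent : ∀ (R' : Subgroup Ω') (hc : E'.IsCentric R'), ∀ a ∈ pre F θ E' R', ∀ k ∈ Ker F θ R',
    a * k * a⁻¹ * k⁻¹ ∈ Lsub h hc.1 := by
  suffices hn : ∀ (n : ℕ) (R' : Subgroup Ω') (hc : E'.IsCentric R'), Nat.card T' - Nat.card R' < n →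
      ∀ a ∈ pre F θ E' R', ∀ k ∈ Ker F θ R', a * k * a⁻¹ * k⁻¹ ∈ Lsub h hc.1 from
    fun R' hc => hn _ R' hc (Nat.lt_succ_self _)
  intro n
  induction n with
  | zero => exact fun R' hc hn => absurd hn (Nat.not_lt_zero _)
  | succ n ihn =>
  intro R' hc hn
  haveI := h.finiteT'
  -- it is enough to treat fully normalised members
  suffices hfullcase : ∀ (Q' : Subgroup Ω') (hcQ : E'.IsCentric Q'), Nat.card Q' = Nat.card R' →
      F.IsFullyNormalized (preimageAlong θ Q') →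
      ∀ a ∈ pre F θ E' Q', ∀ k ∈ Ker F θ Q', a * k * a⁻¹ * k⁻¹ ∈ Lsub h hcQ.1 by
    intro a ha k hk
    obtain ⟨Q', hQ', φ, hφ, hr, hfull⟩ := h.exists_full hc.1
    obtain ⟨φ', hφ', hi, hr'⟩ := h.exists_ind (hc.1.trans h.hT') hφ
    have hr2 : φ'.range = Q' := h.preimage_injective (range_le_base hφ') (hQ'.trans h.hT') (hr'.symm.trans hr)
    have hcQ : E'.IsCentric Q' := hr2 ▸ h.centric_of_hom hc hφ'
    have hcard : Nat.card Q' = Nat.card R' := hr2 ▸ card_range hφ'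
    have h1 := hfullcase Q' hcQ hcard hfull _ (h.congr_mem_pre hc.1 hφ hr (hQ'.trans h.hT') ha) _
      (h.congr_mem_Ker (hc.1.trans h.hT') hφ hr (hQ'.trans h.hT') hk)
    simp only [← map_inv, ← map_mul] at h1
    obtain ⟨ψ, hψ, hψr, hl, -⟩ := exists_inv hφ hr
    refine ⟨mul_mem (h.conj_mem_Ker (hc.1.trans h.hT') ha.1 hk) (inv_mem hk), ?_⟩
    have h2 := h.TT_congr hψ hψr h1.2
    rwa [congr_inv hφ hr hψ hψr hl] at h2
  have hn := hn
  intro Q' hcQ hcard hfull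
  have hQT := hcQ.1
  have hQS : Q' ≤ S' := hQT.trans h.hT'
  haveI := finite_aut θ Q'
  let B : Subgroup (MulAut ↥(preimageAlong θ Q')) :=
    { carrier := {a | a ∈ pre F θ E' Q' ∧ ∀ k ∈ Ker F θ Q', a * k * a⁻¹ * k⁻¹ ∈ Lsub h hQT}
      one_mem' := ⟨one_mem _, fun k _ => by simp⟩
      mul_mem' := by
        rintro a b ⟨ha, ha'⟩ ⟨hb, hb'⟩
        refine ⟨mul_mem ha hb, fun k hk => ?_⟩
        rw [show a * b * k * (a * b)⁻¹ * k⁻¹ = a * (b * k * b⁻¹ * k⁻¹) * a⁻¹ * (a * k * a⁻¹ * k⁻¹) by group]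
        exact mul_mem (h.conj_mem_Lsub hQT ha.1 (hb' k hk)) (ha' k hk)
      inv_mem' := by
        rintro a ⟨ha, ha'⟩
        refine ⟨inv_mem ha, fun k hk => ?_⟩
        rw [show a⁻¹ * k * a⁻¹⁻¹ * k⁻¹ = a⁻¹ * (a * k * a⁻¹ * k⁻¹)⁻¹ * a⁻¹⁻¹ by group]
        exact h.conj_mem_Lsub hQT (inv_mem ha.1) (inv_mem (ha' k hk)) }
  have hBpre : B ≤ pre F θ E' Q' := fun a ha => ha.1
  have hBconj : ∀ g ∈ F.autGroup (preimageAlong θ Q'), ∀ a ∈ B, g * a * g⁻¹ ∈ B := by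
    rintro g hg a ⟨ha, ha'⟩
    refine ⟨h.conj_mem_pre hQT hg ha, fun k hk => ?_⟩
    have hk' := h.conj_mem_Ker hQS (inv_mem hg) hk
    have h1 := h.conj_mem_Lsub hQT hg (ha' _ hk')
    convert h1 using 1
    group
  have hP0 : autInducedBy S (preimageAlong θ Q') ⊓ pre F θ E' Q' ≤ B := by
    rintro x ⟨hxS, hxp⟩
    obtain ⟨w, hw, hwx⟩ := h.P0_decomp hQT hfull hxS hxp
    refine ⟨hxp, fun k hk => ⟨mul_mem (h.conj_mem_Ker hQS hxp.1 hk) (inv_mem hk),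
      h.autT_subset_TT hQT ?_⟩⟩
    rw [show x * k * x⁻¹ * k⁻¹ = w * k * w⁻¹ * k⁻¹ by
      conv_lhs => rw [← mul_inv_cancel_left w x]
      rw [show w * (w⁻¹ * x) * k * (w * (w⁻¹ * x))⁻¹ = w * ((w⁻¹ * x) * k) * (w⁻¹ * x)⁻¹ * w⁻¹ by group,
        h.ker_comm hwx hk]
      group]
    have hkS := h.ker_le_autS hQS hfull hk
    rw [show w * k * w⁻¹ * k⁻¹ = w * (k * w⁻¹ * k⁻¹) by group]
    exact mul_mem hw (h.autS_conj_autT hkS (inv_mem hw))
  obtain ⟨PB, hPB⟩ := h.exists_P0_sylow hQT hfull hBpre hP0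
  obtain ⟨Pp, hPp⟩ := h.exists_P0_sylow hQT hfull (le_refl _) inf_le_right
  intro a ha
  suffices haB : a ∈ B from haB.2
  -- Frattini
  obtain ⟨g, hg, hgconj⟩ := exists_conj_le_sylow PB hPB
    (T := (autInducedBy S (preimageAlong θ Q') ⊓ pre F θ E' Q').map (MulAut.conj a).toMonoidHom)
    (by rintro _ ⟨x, hx, rfl⟩; exact hBconj a ha.1 x (hP0 hx))
    (((isPGroup_autInducedBy h.hS _).to_le inf_le_left).map _)
  suffices hn : g * a ∈ B by simpa using mul_mem (inv_mem hg) hn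
  set v := g * a with hv
  have hvp : v ∈ pre F θ E' Q' := mul_mem (hBpre hg) ha
  have hvnorm : ∀ x ∈ autInducedBy S (preimageAlong θ Q') ⊓ pre F θ E' Q',
      v * x * v⁻¹ ∈ autInducedBy S (preimageAlong θ Q') ⊓ pre F θ E' Q' := fun x hx => by
    have h1 := hgconj _ ⟨x, hx, rfl⟩
    simp only [MulEquiv.coe_toMonoidHom, MulAut.conj_apply] at h1
    rwa [show v * x * v⁻¹ = g * (a * x * a⁻¹) * g⁻¹ by rw [hv]; group]
  obtain ⟨q, hq, j, hj⟩ := exists_pow_pElement (p := p) v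
  obtain ⟨i, hi⟩ := FusionP3.GT.exists_pow_coprime (p := p) v
  refine mem_of_two_pow hq ?_ (k := i) ?_
  · -- a `p`-element
    have hpg : IsPGroup p (Subgroup.zpowers (v ^ q)) := IsPGroup.iff_card.2 ⟨j, by rw [Nat.card_zpowers, hj]⟩
    obtain ⟨u, hu, huc⟩ := exists_conj_le_sylow Pp hPp (T := Subgroup.zpowers (v ^ q))
      (Subgroup.zpowers_le.2 (pow_mem hvp q)) hpg
    have h1 := hBconj u⁻¹ (inv_mem hu.1) _ (hP0 (huc _ (Subgroup.mem_zpowers _)))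
    simpa [mul_assoc] using h1
  -- an element of order prime to `p`
  set m := v ^ p ^ i
  have hmnorm : ∀ x ∈ autInducedBy S (preimageAlong θ Q') ⊓ pre F θ E' Q',
      m * x * m⁻¹ ∈ autInducedBy S (preimageAlong θ Q') ⊓ pre F θ E' Q' := by
    have : ∀ (l : ℕ), ∀ x ∈ autInducedBy S (preimageAlong θ Q') ⊓ pre F θ E' Q',
        v ^ l * x * (v ^ l)⁻¹ ∈ autInducedBy S (preimageAlong θ Q') ⊓ pre F θ E' Q' := by
      intro l
      induction l with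
      | zero => intro x hx; simpa using hx
      | succ l ihl =>
        intro x hx
        rw [show v ^ (l + 1) * x * (v ^ (l + 1))⁻¹ = v * (v ^ l * x * (v ^ l)⁻¹) * v⁻¹ by
          rw [pow_succ']; group]
        exact hvnorm _ (ihl x hx)
    exact this _
  have hmp : m ∈ pre F θ E' Q' := pow_mem hvp _
  refine ⟨hmp, fun k hk => ?_⟩
  rcases eq_or_lt_of_le hQT with heq | hlt
  · subst heq
    exact h.cent_top hfull hmp hk
  refine commutator_mem_of_quadratic (p := p) (Ker F θ Q') (Lsub h hQT) h.ker_pgroup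
    (fun a ha b hb => h.ker_comm ha hb) m hi (fun k hk => h.conj_mem_Ker hQS hmp.1 hk)
    (fun l hl => h.conj_mem_Lsub hQT hmp.1 hl) hk ?_
  refine h.cent_step hcQ hlt (fun V' hV hQV => ?_) hfull hmp
    (fun x hx hxp => (hmnorm x ⟨hx, hxp⟩).1) hk
  refine ihn V' hV ?_
  haveI := finite_sub hV.1
  have h1 : Nat.card Q' < Nat.card V' :=
    lt_of_not_ge fun he => hQV.ne (Subgroup.eq_of_le_of_card_ge hQV.le he)
  have h2 := Subgroup.card_le_of_le hV.1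
  omega

end Setup

end Cfsg.Agent.Lib.FS.CentralLift
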