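import Cfsg.Agent.Lib.FusionSystem.CentralLift.System

/-!
Good members of a class, connecting maps, and lifts of maps normalising a subgroup.
-/

set_option autoImplicit false
set_option linter.style.haveILetI false
set_option linter.unusedSectionVars false

namespace Cfsg.Agent.Lib.FS.CentralLift

open Cfsg Cfsg.FusionSystem Cfsg.Agent.Lib.FS

variable {Ω : Type*} [Group Ω] {S : Subgroup Ω} {Ω' : Type*} [Group Ω'] {S' T' : Subgroup Ω'}

/-- A member where the inner part is large. -/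
structure Good (F : FusionSystem S) (θ : S →* Ω') (E' : FusionSystem T') (Q' : Subgroup Ω') : Prop where
  centric : E'.IsCentric Q'
  full : E'.IsFullyNormalized Q'
  inner : ∀ a ∈ Ker F θ Q', a ∈ TT F θ T' Q' →
    a ∈ autInducedBy (preimageAlong θ T') (preimageAlong θ Q')

/-- A connecting map from `R₁'` to `Q'`. -/
def Conn (F : FusionSystem S) (θ : S →* Ω') (E' : FusionSystem T') (p : ℕ) (R₁' Q' : Subgroup Ω')
    (ι : ↥(preimageAlong θ (normalizerIn T' R₁')) →* Ω) : Prop :=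
  ι ∈ (lifted F θ E' p).Hom (preimageAlong θ (normalizerIn T' R₁')) ∧
    ((preimageAlong θ R₁').subgroupOf (preimageAlong θ (normalizerIn T' R₁'))).map ι = preimageAlong θ Q'

variable [Finite S] {p : ℕ} [Fact p.Prime] {F : FusionSystem S} {θ : S →* Ω'} {F' : FusionSystem S'}
variable {E' : FusionSystem T'} (h : Setup F θ F' E' p)
include h

namespace Setup

theorem card_normalizer_img {α : MulAut T'} {X : Subgroup Ω'} (hX : X ≤ T') :
    Nat.card (normalizerIn T' X) ≤ Nat.card (normalizerIn T' (FusionP3.Prime.img α X)) := by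
  haveI := h.finiteT'
  haveI : Finite (normalizerIn T' (FusionP3.Prime.img α X)) := finite_sub inf_le_left
  haveI : Finite (FusionP3.Prime.img α X) := finite_sub (FusionP3.Prime.img_le α X)
  refine Nat.card_le_card_of_injective (fun g : normalizerIn T' X =>
    (⟨((α ⟨g, g.2.1⟩ : T') : Ω'), (α _).2, ?_⟩ : normalizerIn T' (FusionP3.Prime.img α X))) fun a b e => ?_
  · refine mem_normalizer_of_conj_mem ?_
    rintro _ ⟨z, hz, rfl⟩
    refine ⟨⟨g, g.2.1⟩ * z * ⟨g, g.2.1⟩⁻¹, conj_mem_of_normalizer g.2.2 hz, ?_⟩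
    simp
  · have h1 := α.injective (Subtype.ext (congrArg (fun w : normalizerIn T' (FusionP3.Prime.img α X) => (w : Ω')) e))
    exact Subtype.ext (congrArg (fun w : T' => (w : Ω')) h1)

theorem exists_good {R' : Subgroup Ω'} (hc : E'.IsCentric R') :
    ∃ Q', Good F θ E' Q' ∧ E'.IsConj R' Q' := by
  haveI := h.finite'
  haveI := h.finiteT'
  obtain ⟨R₀, hR₀, φ, hφ, hr, hfull⟩ := h.exists_full hc.1
  obtain ⟨φ', hφ', hi, hr'⟩ := h.exists_ind (hc.1.trans h.hT') hφ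
  have hr2 : φ'.range = R₀ := h.preimage_injective (range_le_base hφ') (hR₀.trans h.hT') (hr'.symm.trans hr)
  obtain ⟨α, hα, e, he, hd⟩ := h.inv'.2.2.2 R' hc.1 φ' hφ'
  have hQT : e.range ≤ T' := range_le_base he
  have himg : FusionP3.Prime.img α e.range = R₀ := by
    rw [← hr2]
    ext y
    constructor
    · rintro ⟨z, ⟨x, hx⟩, rfl⟩
      exact ⟨x, (hd x (apply_mem he x)).trans (congrArg (fun w => ((α w : T') : Ω')) (Subtype.ext hx))⟩
    · rintro ⟨x, rfl⟩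
      exact ⟨⟨e x, apply_mem he x⟩, ⟨x, rfl⟩, (hd x _).symm⟩
  have hinv : FusionP3.Prime.img α⁻¹ R₀ = e.range := by
    ext y
    constructor
    · rintro ⟨z, hz, rfl⟩
      have h1 : (z : Ω') ∈ FusionP3.Prime.img α e.range := himg.ge hz
      exact (FusionP3.Prime.mem_img z.2).1 h1
    · intro hy
      rw [FusionP3.Prime.mem_img (hQT hy), inv_inv]
      exact himg.le ⟨⟨y, hQT hy⟩, hy, rfl⟩
  have hfull' : E'.IsFullyNormalized R₀ := h.fullE hR₀ (h.full_of_full (hR₀.trans h.hT') hfull)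
  refine ⟨e.range, ⟨Cfsg.Agent.Lib.Transfer.FusionLocal.isCentric_of_isConj ⟨e, he, rfl⟩ hc, ⟨hQT, fun Q hQ => ?_⟩,
    fun a hak ha => ?_⟩, e, he, rfl⟩
  · obtain ⟨χ₀, hχ₀, hr₀⟩ := hQ
    obtain ⟨χ, hχ, hχe⟩ := h.inv'.2.2.1 e.range hQT χ₀ hχ₀ α hα
    have hconj : E'.IsConj R₀ (FusionP3.Prime.img α Q) := by
      obtain ⟨χ', hχ', hχ'e⟩ := exists_restrict hχ himg.ge
      refine ⟨χ', hχ', ?_⟩
      ext y
      constructor
      · rintro ⟨⟨w, hw⟩, rfl⟩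
        obtain ⟨z, hz, rfl⟩ := himg.ge hw
        rw [hχ'e]
        exact (congrArg (· ∈ FusionP3.Prime.img α Q)
          (hχe ⟨z, hz⟩ (apply_mem hχ₀ _) (himg.ge hw))).mpr ⟨⟨_, apply_mem hχ₀ _⟩, hr₀.le ⟨_, rfl⟩, rfl⟩
      · rintro ⟨z, hz, rfl⟩
        obtain ⟨x, hx⟩ := hr₀.ge hz
        have hm : ((α ⟨x, hQT x.2⟩ : T') : Ω') ∈ FusionP3.Prime.img α e.range := ⟨⟨x, hQT x.2⟩, x.2, rfl⟩
        refine ⟨⟨_, himg.le hm⟩, ?_⟩
        rw [hχ'e]
        exact (hχe x (apply_mem hχ₀ x) hm).trans (congrArg (fun w => ((α w : T') : Ω')) (Subtype.ext hx))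
    have hQle : Q ≤ T' := hr₀ ▸ range_le_base hχ₀
    calc Nat.card (normalizerIn T' Q) ≤ Nat.card (normalizerIn T' (FusionP3.Prime.img α Q)) :=
          h.card_normalizer_img hQle
      _ ≤ Nat.card (normalizerIn T' R₀) := hfull'.2 _ hconj
      _ ≤ Nat.card (normalizerIn T' e.range) := hinv ▸ h.card_normalizer_img hR₀
  · obtain ⟨Γ, hΓ, hΓα⟩ := h.exists_rel_lift h.hT' hα
    obtain ⟨g₀, hg₀, hg₀r, hg₀e⟩ := exists_hom_of_aut (preimageAlong_le θ T') hΓ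
    obtain ⟨g, hg, hge⟩ := exists_restrict hg₀ (preimageAlong_mono hQT)
    obtain ⟨g', hg', hgi, hgr'⟩ := h.exists_ind (hQT.trans h.hT') hg
    have hg'e : ∀ x, g' (proj θ e.range x) = ((α ⟨((proj θ e.range x : e.range) : Ω'), hQT (proj θ e.range x).2⟩ : T') : Ω') := by
      intro x
      rw [hgi, show (⟨((proj θ e.range x : e.range) : Ω'), hQT (proj θ e.range x).2⟩ : T') =
        proj θ T' ⟨x, preimageAlong_mono hQT x.2⟩ from Subtype.ext rfl, hΓα]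
      exact congrArg θ (Subtype.ext ((hge x).trans (hg₀e _)))
    have hgr : g.range = preimageAlong θ R₀ := by
      rw [hgr']
      congr 1
      rw [← himg]
      ext y
      constructor
      · rintro ⟨w, rfl⟩
        obtain ⟨x, rfl⟩ := h.proj_surjective (hQT.trans h.hT') w
        rw [hg'e]
        exact ⟨_, (proj θ e.range x).2, rfl⟩
      · rintro ⟨z, hz, rfl⟩
        obtain ⟨x, hx⟩ := h.proj_surjective (hQT.trans h.hT') ⟨z, hz⟩
        refine ⟨proj θ e.range x, ?_⟩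
        rw [hg'e]
        exact congrArg (fun w => ((α w : T') : Ω')) (Subtype.ext (congrArg Subtype.val hx :))
    have hk := h.congr_mem_Ker (hQT.trans h.hT') hg hgr (hR₀.trans h.hT') hak
    obtain ⟨t, ht, hte⟩ := mem_autInducedBy.1
      (h.full_TT hfull (h.TT_congr hg hgr ha) (h.ker_le_autS (hR₀.trans h.hT') hfull hk))
    obtain ⟨u, hu⟩ := hg₀r.ge ht
    refine mem_autInducedBy.2 ⟨u, u.2, fun x => ?_⟩
    have h1 := hte (homEquiv hg hgr x)
    rw [congr_apply_map, homEquiv_coe, hge, hge, ← hu, ← map_inv, ← map_mul, ← map_mul] at h1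
    exact congrArg (fun w : ↥(preimageAlong θ T') => (w : Ω)) (F.injective_of_mem hg₀ h1)

theorem le_of_preimage_le {P' Q' : Subgroup Ω'} (hP' : P' ≤ S')
    (hle : preimageAlong θ P' ≤ preimageAlong θ Q') : P' ≤ Q' := fun y hy => by
  obtain ⟨x, hx⟩ := h.proj_surjective hP' ⟨y, hy⟩
  have h1 : θ ⟨x, preimageAlong_le θ P' x.2⟩ = y := congrArg Subtype.val hx
  exact h1 ▸ (mem_preimageAlong.1 (hle x.2)).2

theorem exists_conn {R₁' Q' : Subgroup Ω'} (hQ : Good F θ E' Q') (hconj : E'.IsConj R₁' Q') :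
    ∃ ι, Conn F θ E' p R₁' Q' ι := by
  haveI := h.finiteT'
  have hR₁ := isConj_le_left hconj
  obtain ⟨e, he, -, hmap⟩ := exists_normalizer_map h.pgroupT' h.esat hQ.full hconj
  obtain ⟨ι, hι, hi⟩ := h.exists_lifted he
  refine ⟨ι, hι, ?_⟩
  obtain ⟨ι₁, hι₁, hι₁e⟩ := exists_restrict hι (preimageAlong_mono (le_normalizerIn hR₁))
  obtain ⟨e₁, he₁, hi₁, hr₁⟩ := h.lifted_ind (hR₁.trans h.hT') hι₁
  have he₁e : ∀ y : R₁', e₁ y = e ⟨y, le_normalizerIn hR₁ y.2⟩ := fun y => by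
    obtain ⟨x, rfl⟩ := h.proj_surjective (hR₁.trans h.hT') y
    rw [hi₁, show (⟨((proj θ R₁' x : R₁') : Ω'), le_normalizerIn hR₁ (proj θ R₁' x).2⟩ : normalizerIn T' R₁') =
      proj θ (normalizerIn T' R₁') ⟨x, preimageAlong_mono (le_normalizerIn hR₁) x.2⟩ from Subtype.ext rfl, hi]
    exact congrArg θ (Subtype.ext (hι₁e x))
  have he₁r : e₁.range = Q' := by
    rw [← hmap, map_subgroupOf_eq_range (le_normalizerIn hR₁)]
    exact congrArg MonoidHom.range (MonoidHom.ext he₁e)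
  rw [map_subgroupOf_eq_range (preimageAlong_mono (le_normalizerIn hR₁)), ← he₁r, ← hr₁]
  exact congrArg MonoidHom.range (MonoidHom.ext fun x => (hι₁e x).symm)

/-- A map of the subsystem normalising `Q'` lifts to a map restricting into the automizer. -/
theorem exists_lift_normalizing {Q' : Subgroup Ω'} (hQ : Good F θ E' Q') {X' : Subgroup Ω'} (hQX : Q' ≤ X')
    (hXN : X' ≤ normalizerIn T' Q') {e : X' →* Ω'} (he : e ∈ E'.Hom X')
    (hval : ∀ y, e y ∈ normalizerIn T' Q') (hstab : ∀ y : X', (y : Ω') ∈ Q' → e y ∈ Q') :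
    ∃ η, ∃ hη : η ∈ (lifted F θ E' p).Hom (preimageAlong θ X'),
      (∀ x, e (proj θ X' x) = θ ⟨η x, apply_mem hη.1 x⟩) ∧ ∃ b ∈ Aut F θ E' p Q',
        ∀ x : ↥(preimageAlong θ Q'), η ⟨x, preimageAlong_mono hQX x.2⟩ = (b x : ↥(preimageAlong θ Q')) := by
  haveI := h.finiteT'
  have hQT : Q' ≤ T' := hQ.centric.1
  haveI := finite_sub hQT
  haveI : Finite (normalizerIn T' Q') := finite_sub inf_le_left
  obtain ⟨N, hN⟩ := exists_normalizerSystem E' hQT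
  have hNsat : N.IsSaturated p := normalizerSystem_isSaturated h.pgroupT' h.esat hQ.full hN
  have hNp : IsPGroup p (normalizerIn T' Q') := h.pgroupT'.to_le inf_le_left
  have hnorm : N.IsNormal Q' := by
    refine ⟨le_normalizerIn hQT, fun P φ hφ => ?_⟩
    rw [hN] at hφ
    obtain ⟨-, hP, -, ψ, hψ, hψe, hψm⟩ := hφ
    refine ⟨ψ, ?_, hψe, hψm⟩
    rw [hN]
    haveI : Finite ↥(P ⊔ Q' : Subgroup Ω') := finite_sub (src_le hψ)
    refine ⟨hψ, sup_le hP (le_normalizerIn hQT), fun x =>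
      apply_mem_normalizerIn hψ le_sup_right hψm x ((sup_le hP (le_normalizerIn hQT) x.2).2), ?_⟩
    obtain ⟨ψ', hψ', hψ'e⟩ := exists_restrict hψ (sup_le le_rfl le_sup_right : P ⊔ Q' ⊔ Q' ≤ P ⊔ Q')
    refine ⟨ψ', hψ', fun x => hψ'e _, ?_⟩
    conv_rhs => rw [← hψm]
    ext y
    constructor
    · rintro ⟨x, hx, rfl⟩; exact ⟨⟨x, _⟩, hx, (hψ'e x).symm⟩
    · rintro ⟨x, hx, rfl⟩; exact ⟨⟨x, le_sup_left (b := Q') x.2⟩, hx, hψ'e _⟩
  let M : ∀ V : Subgroup Ω', (V →* Ω') → Prop := fun V φ =>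
    ∃ ψ ∈ E'.Hom (V ⊔ Q'), (∀ x : V, ψ ⟨x, le_sup_left (b := Q') x.2⟩ = φ x) ∧
      ∃ η, ∃ hη : η ∈ (lifted F θ E' p).Hom (preimageAlong θ (V ⊔ Q')),
        (∀ x, ψ (proj θ (V ⊔ Q') x) = θ ⟨η x, apply_mem hη.1 x⟩) ∧ ∃ b ∈ Aut F θ E' p Q',
          ∀ x : ↥(preimageAlong θ Q'), η ⟨x, preimageAlong_mono le_sup_right x.2⟩ = (b x : ↥(preimageAlong θ Q'))
  have hM : ∀ (V : Subgroup Ω') (φ : V →* Ω'), φ ∈ N.Hom V → M V φ := by
    refine FusionP3.Induction.hom_induction hNp hNsat ?_ ?_ ?_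
    · rintro P Q e₁ e₂ e₃ - - hm he₃ ⟨ψ₁, hψ₁, hψ₁e, η₁, hη₁, hi₁, b₁, hb₁, hb₁e⟩
        ⟨ψ₂, hψ₂, hψ₂e, η₂, hη₂, hi₂, b₂, hb₂, hb₂e⟩
      have hQmap : ∀ y : ↥(P ⊔ Q' : Subgroup Ω'), (y : Ω') ∈ Q' → ψ₁ y ∈ Q' := fun y hy => by
        obtain ⟨x, hx⟩ := h.proj_surjective (hQT.trans h.hT') ⟨y, hy⟩
        have hy' : y = proj θ (P ⊔ Q') ⟨x, preimageAlong_mono le_sup_right x.2⟩ :=
          Subtype.ext (congrArg Subtype.val hx).symm
        rw [hy', hi₁]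
        exact (mem_preimageAlong.1 (hb₁e x ▸ (b₁ x).2)).2
      have hψval : ∀ y, ψ₁ y ∈ Q ⊔ Q' := fun y => by
        have hle : P ⊔ Q' ≤ (((Q ⊔ Q').comap ψ₁).map (P ⊔ Q').subtype) := by
          refine sup_le (fun z hz => ⟨⟨z, le_sup_left (b := Q') hz⟩, ?_, rfl⟩)
            fun z hz => ⟨⟨z, le_sup_right (a := P) hz⟩, le_sup_right (a := Q) (hQmap _ hz), rfl⟩
          show ψ₁ _ ∈ Q ⊔ Q'
          rw [hψ₁e ⟨z, hz⟩]
          exact le_sup_left (b := Q') (hm _)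
        obtain ⟨z, hz, hze⟩ := hle y.2
        rwa [show y = z from Subtype.ext hze.symm]
      have hval : ∀ x, η₁ x ∈ preimageAlong θ (Q ⊔ Q') := fun x =>
        mem_preimageAlong.2 ⟨apply_mem hη₁.1 x, hi₁ x ▸ hψval _⟩
      obtain ⟨ψ₃, hψ₃, hψ₃e⟩ := exists_comp hψ₁ hψ₂ hψval
      obtain ⟨η₃, hη₃, hη₃e⟩ := exists_comp hη₁ hη₂ hval
      refine ⟨ψ₃, hψ₃, fun x => ?_, η₃, hη₃, fun x => ?_, b₂ * b₁, mul_mem hb₂ hb₁, fun x => ?_⟩
      · rw [hψ₃e, he₃, ← hψ₂e]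
        exact congrArg ψ₂ (Subtype.ext (hψ₁e x))
      · rw [hψ₃e, show (⟨ψ₁ (proj θ (P ⊔ Q') x), hψval _⟩ : ↥(Q ⊔ Q' : Subgroup Ω')) =
          proj θ (Q ⊔ Q') ⟨η₁ x, hval x⟩ from Subtype.ext (hi₁ x), hi₂]
        exact congrArg θ (Subtype.ext (hη₃e x).symm)
      · rw [hη₃e, MulAut.mul_apply, ← hb₂e]
        exact congrArg η₂ (Subtype.ext (hb₁e x))
    · rintro P Q e₁ e₂ hle - he ⟨ψ, hψ, hψe, η, hη, hi, b, hb, hbe⟩
      obtain ⟨ψ₁, hψ₁, hψ₁e⟩ := exists_restrict hψ (sup_le_sup_right hle Q')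
      obtain ⟨η₁, hη₁, hη₁e⟩ := exists_restrict hη (preimageAlong_mono (sup_le_sup_right hle Q'))
      refine ⟨ψ₁, hψ₁, fun x => ?_, η₁, hη₁, fun x => ?_, b, hb, fun x => ?_⟩
      · rw [hψ₁e, he, ← hψe]
      · rw [hψ₁e, show (⟨((proj θ (P ⊔ Q') x : ↥(P ⊔ Q' : Subgroup Ω')) : Ω'), sup_le_sup_right hle Q'
          (proj θ (P ⊔ Q') x).2⟩ : ↥(Q ⊔ Q' : Subgroup Ω')) =
          proj θ (Q ⊔ Q') ⟨x, preimageAlong_mono (sup_le_sup_right hle Q') x.2⟩ from Subtype.ext rfl, hi]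
        exact congrArg θ (Subtype.ext (hη₁e x).symm)
      · rw [hη₁e, hbe]
    · intro V hVn hVc hVr α hα _
      have hQV : Q' ≤ V := isNormal_le_centricRadical hNp hnorm hVc hVr
      have hVT : V ≤ T' := hVn.1.trans inf_le_left
      have hV : E'.IsCentric V := isCentric_of_le hQ.centric hQV hVT
      obtain ⟨φ, hφ, -, hφe⟩ := exists_hom_of_aut hVn.1 hα
      have hφE : φ ∈ E'.Hom V := by
        have hh := hφ
        rw [hN] at hh
        exact hh.1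
      have hstabV : ∀ y : V, (y : Ω') ∈ Q' → ((α y : V) : Ω') ∈ Q' := fun y hy => by
        rw [← hφe]; exact isNormal_apply_mem hnorm hφ hy
      obtain ⟨a, ha, hab⟩ := h.exists_Aut_lift hVT (mem_autGroup_of_hom hφE fun y => (hφe y).symm)
      obtain ⟨b, hb⟩ := h.exists_restr hQV hab hstabV
      have hbA := h.restr_Aut hV hQV hb ha
      have hsupV : V ⊔ Q' = V := sup_eq_left.2 hQV
      obtain ⟨ψ, hψ, hψe⟩ := exists_restrict hφE hsupV.le
      obtain ⟨η₀, hη₀, -, hη₀e⟩ := exists_hom_of_aut (preimageAlong_mono hVT) (h.contains_lifted V hV ha)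
      obtain ⟨η, hη, hηe⟩ := exists_restrict hη₀ (preimageAlong_mono hsupV.le)
      refine ⟨ψ, hψ, fun x => (hψe _).trans (hφe x), η, hη, fun x => ?_, b, hbA, fun x => ?_⟩
      · rw [hψe, hφe, show (⟨((proj θ (V ⊔ Q') x : ↥(V ⊔ Q' : Subgroup Ω')) : Ω'), hsupV.le
          (proj θ (V ⊔ Q') x).2⟩ : V) = proj θ V ⟨x, preimageAlong_mono hsupV.le x.2⟩ from Subtype.ext rfl, hab]
        exact congrArg θ (Subtype.ext ((hηe x).trans (hη₀e _)).symm)
      · rw [hηe, hη₀e, ← hb x]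
        rfl
  have heN : e ∈ N.Hom X' := by
    rw [hN]
    refine ⟨he, hXN, hval, ?_⟩
    obtain ⟨ψ, hψ, hψe⟩ := exists_restrict he (sup_le le_rfl hQX : X' ⊔ Q' ≤ X')
    haveI := finite_sub hQT
    exact ⟨ψ, hψ, fun x => hψe _, map_subgroupOf_eq_of_mapsTo hψ le_sup_right fun y hy => hψe y ▸ hstab _ hy⟩
  obtain ⟨ψ, hψ, hψe, η, hη, hi, b, hb, hbe⟩ := hM X' e heN
  obtain ⟨η₁, hη₁, hη₁e⟩ := exists_restrict hη (preimageAlong_mono (le_sup_left : X' ≤ X' ⊔ Q'))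
  refine ⟨η₁, hη₁, fun x => ?_, b, hb, fun x => ?_⟩
  · rw [← hψe, show (⟨((proj θ X' x : X') : Ω'), le_sup_left (b := Q') (proj θ X' x).2⟩ : ↥(X' ⊔ Q' : Subgroup Ω')) =
      proj θ (X' ⊔ Q') ⟨x, preimageAlong_mono le_sup_left x.2⟩ from Subtype.ext rfl, hi]
    exact congrArg θ (Subtype.ext (hη₁e x).symm)
  · rw [hη₁e, ← hbe]

end Setup

end Cfsg.Agent.Lib.FS.CentralLift
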