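import Cfsg.Agent.Lib.FusionSystem.CentralLift.Commutator

/-!
The automizers of the lifted subsystem: they meet the kernel in its inner part and cover the automizers of the
normal subsystem.
-/

set_option autoImplicit false
set_option linter.style.haveILetI false
set_option linter.unusedSectionVars false
set_option maxHeartbeats 1000000

namespace Cfsg.Agent.Lib.FS.CentralLift

open Cfsg Cfsg.FusionSystem Cfsg.Agent.Lib.FS

variable {Ω : Type*} [Group Ω] {S : Subgroup Ω} {Ω' : Type*} [Group Ω'] {S' T' : Subgroup Ω'}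

/-- The automizer of the lifted subsystem at the preimage of `R'`. -/
def Aut (F : FusionSystem S) (θ : S →* Ω') (E' : FusionSystem T') (p : ℕ) (R' : Subgroup Ω') :
    Subgroup (MulAut ↥(preimageAlong θ R')) :=
  Subgroup.closure ({a | a ∈ pre F θ E' R' ∧ (orderOf a).Coprime p} ∪ TT F θ T' R')

variable [Finite S] {p : ℕ} [Fact p.Prime] {F : FusionSystem S} {θ : S →* Ω'} {F' : FusionSystem S'}
variable {E' : FusionSystem T'} (h : Setup F θ F' E' p)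
include h

namespace Setup

theorem Aut_le_pre {R' : Subgroup Ω'} (hR' : R' ≤ T') : Aut F θ E' p R' ≤ pre F θ E' R' :=
  (Subgroup.closure_le _).2 fun _ ha => ha.elim (fun ha => ha.1) fun ha => h.TT_subset_pre hR' ha

theorem autT_le_Aut {R' : Subgroup Ω'} (hR' : R' ≤ T') :
    autInducedBy (preimageAlong θ T') (preimageAlong θ R') ≤ Aut F θ E' p R' :=
  fun _ ha => Subgroup.subset_closure (Or.inr (h.autT_subset_TT hR' ha))

theorem congr_mem_Aut {R' Q' : Subgroup Ω'} (hR' : R' ≤ T') (hQ' : Q' ≤ S')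
    {φ : ↥(preimageAlong θ R') →* Ω} (hφ : φ ∈ F.Hom (preimageAlong θ R'))
    (hr : φ.range = preimageAlong θ Q') {a : MulAut ↥(preimageAlong θ R')} (ha : a ∈ Aut F θ E' p R') :
    MulAut.congr (homEquiv hφ hr) a ∈ Aut F θ E' p Q' := by
  have hle : Aut F θ E' p R' ≤ (Aut F θ E' p Q').comap (MulAut.congr (homEquiv hφ hr)).toMonoidHom :=
    (Subgroup.closure_le _).2 fun x hx => Subgroup.subset_closure (hx.elim
      (fun hx => Or.inl ⟨h.congr_mem_pre hR' hφ hr hQ' hx.1, FusionP3.GT.coprime_map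
        (MulAut.congr (homEquiv hφ hr)).toMonoidHom hx.2⟩)
      fun hx => Or.inr (h.TT_congr hφ hr hx))
  exact hle ha

theorem conj_mem_Aut {R' : Subgroup Ω'} (hR' : R' ≤ T') {f a : MulAut ↥(preimageAlong θ R')}
    (hf : f ∈ F.autGroup (preimageAlong θ R')) (ha : a ∈ Aut F θ E' p R') : f * a * f⁻¹ ∈ Aut F θ E' p R' := by
  obtain ⟨φ, hφ, hr, he⟩ := exists_hom_of_aut (preimageAlong_le θ R') hf
  have h1 := h.congr_mem_Aut hR' (hR'.trans h.hT') hφ hr ha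
  rwa [congr_eq_conj hφ hr, show (homEquiv hφ hr : MulAut _) = f from
    MulEquiv.ext fun x => Subtype.ext (he x)] at h1

theorem TT_pow {R' : Subgroup Ω'} {a : MulAut ↥(preimageAlong θ R')} (ha : a ∈ TT F θ T' R') :
    ∃ k : ℕ, a ^ p ^ k = 1 := by
  obtain ⟨-, Q', -, φ, hφ, hr, -, hmem⟩ := ha
  obtain ⟨k, hk⟩ := isPGroup_autInducedBy h.hS (preimageAlong θ Q') ⟨_, h.autT_le_autS Q' hmem⟩
  refine ⟨k, (MulAut.congr (homEquiv hφ hr)).injective ?_⟩
  rw [map_pow, map_one]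
  exact congrArg Subtype.val hk

theorem Aut_inf_Ker_full {R' : Subgroup Ω'} (hc : E'.IsCentric R')
    (hfull : F.IsFullyNormalized (preimageAlong θ R')) {a : MulAut ↥(preimageAlong θ R')}
    (ha : a ∈ Aut F θ E' p R') (hk : a ∈ Ker F θ R') :
    a ∈ autInducedBy (preimageAlong θ T') (preimageAlong θ R') := by
  have hR' := hc.1
  have hRS := hR'.trans h.hT'
  haveI := finite_aut θ R'
  set G := pre F θ E' R'
  set AT := autInducedBy (preimageAlong θ T') (preimageAlong θ R')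
  obtain ⟨P, hP⟩ := h.exists_P0_sylow hR' hfull (le_refl G) inf_le_right
  have hPmem : ∀ x : G, x ∈ (P : Subgroup G) ↔
      (x : MulAut ↥(preimageAlong θ R')) ∈ autInducedBy S (preimageAlong θ R') := fun x => by
    rw [hP, Subgroup.mem_subgroupOf]; exact ⟨fun hx => hx.1, fun hx => ⟨hx, x.2⟩⟩
  obtain ⟨N, hNn, hWN, hcop, hmeet⟩ := exists_normal_meeting P (AT.subgroupOf G) ((Ker F θ R').subgroupOf G)
    (fun x hx => (hPmem x).2 (h.ker_le_autS hRS hfull (Subgroup.mem_subgroupOf.1 hx)))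
    (fun x hx => by
      obtain ⟨w, hw, hwx⟩ := h.P0_decomp hR' hfull ((hPmem x).1 hx) x.2
      exact ⟨⟨w, h.autT_le_pre hR' hw⟩, Subgroup.mem_subgroupOf.2 hw, Subgroup.mem_subgroupOf.2 hwx⟩)
    (fun x hx => (hPmem x).2 (h.autT_le_autS R' (Subgroup.mem_subgroupOf.1 hx)))
    (fun a ha b hb => Subtype.ext (h.ker_comm (Subgroup.mem_subgroupOf.1 ha) (Subgroup.mem_subgroupOf.1 hb)))
    (fun x hx w hw => Subgroup.mem_subgroupOf.2 (h.autS_conj_autT ((hPmem x).1 hx) (Subgroup.mem_subgroupOf.1 hw)))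
    (fun g k hk => by
      have hk' := Subgroup.mem_subgroupOf.1 hk
      have h1 := h.cent R' hc g g.2 k hk'
      exact Subgroup.mem_subgroupOf.2 (h.full_TT hfull h1.2 (h.ker_le_autS hRS hfull h1.1)))
    fun g w hw hgw => Subgroup.mem_subgroupOf.2 (h.full_TT hfull
      (h.conj_mem_TT g.2.1 (h.autT_subset_TT hR' (Subgroup.mem_subgroupOf.1 hw))) ((hPmem _).1 hgw))
  have hle : Aut F θ E' p R' ≤ N.map G.subtype := by
    refine (Subgroup.closure_le _).2 ?_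
    rintro x (⟨hx, hco⟩ | hx)
    · exact ⟨⟨x, hx⟩, hcop _ (by rw [← orderOf_injective G.subtype Subtype.coe_injective]; exact hco), rfl⟩
    · have hxp := h.TT_subset_pre hR' hx
      obtain ⟨k, hk⟩ := h.TT_pow hx
      have hpg : IsPGroup p (Subgroup.zpowers x) := by
        obtain ⟨j, -, hj⟩ := (Nat.dvd_prime_pow (Fact.out : p.Prime)).1 (orderOf_dvd_of_pow_eq_one hk)
        exact IsPGroup.iff_card.2 ⟨j, by rw [Nat.card_zpowers, hj]⟩
      obtain ⟨g, hg, hgc⟩ := exists_conj_le_sylow P hP (T := Subgroup.zpowers x) (Subgroup.zpowers_le.2 hxp) hpg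
      have h1 := h.full_TT hfull (h.conj_mem_TT hg.1 hx) (hgc _ (Subgroup.mem_zpowers _)).1
      have h2 : (⟨g, hg⟩ : G) * ⟨x, hxp⟩ * (⟨g, hg⟩ : G)⁻¹ ∈ N := hWN (Subgroup.mem_subgroupOf.2 h1)
      have h3 := hNn.conj_mem _ h2 (⟨g, hg⟩ : G)⁻¹
      refine ⟨⟨x, hxp⟩, ?_, rfl⟩
      rwa [show (⟨g, hg⟩ : G)⁻¹ * ((⟨g, hg⟩ : G) * ⟨x, hxp⟩ * (⟨g, hg⟩ : G)⁻¹) * (⟨g, hg⟩ : G)⁻¹⁻¹ = ⟨x, hxp⟩ by group] at h3
  obtain ⟨y, hy, hye⟩ := hle ha
  subst hye
  exact Subgroup.mem_subgroupOf.1 (hmeet y (Subgroup.mem_subgroupOf.2 hk) hy)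

theorem Aut_inf_Ker {R' : Subgroup Ω'} (hc : E'.IsCentric R') {a : MulAut ↥(preimageAlong θ R')}
    (ha : a ∈ Aut F θ E' p R') (hk : a ∈ Ker F θ R') : a ∈ TT F θ T' R' := by
  obtain ⟨Q', hQ', φ, hφ, hr, hfull⟩ := h.exists_full hc.1
  obtain ⟨φ', hφ', hi, hr'⟩ := h.exists_ind (hc.1.trans h.hT') hφ
  have hr2 : φ'.range = Q' := h.preimage_injective (range_le_base hφ') (hQ'.trans h.hT') (hr'.symm.trans hr)
  exact ⟨ha |> fun hh => (h.Aut_le_pre hc.1 hh).1, Q', hQ', φ, hφ, hr, hfull,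
    h.Aut_inf_Ker_full (hr2 ▸ h.centric_of_hom hc hφ') hfull
      (h.congr_mem_Aut hc.1 (hQ'.trans h.hT') hφ hr ha)
      (h.congr_mem_Ker (hc.1.trans h.hT') hφ hr (hQ'.trans h.hT') hk)⟩

theorem pElement_mem_TT {R' : Subgroup Ω'} (hc : E'.IsCentric R') {a : MulAut ↥(preimageAlong θ R')}
    (ha : a ∈ Aut F θ E' p R') {k : ℕ} (hk : a ^ p ^ k = 1) : a ∈ TT F θ T' R' := by
  obtain ⟨Q', hQ', φ, hφ, hr, hfull⟩ := h.exists_full hc.1
  obtain ⟨φ', hφ', hi, hr'⟩ := h.exists_ind (hc.1.trans h.hT') hφ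
  have hr2 : φ'.range = Q' := h.preimage_injective (range_le_base hφ') (hQ'.trans h.hT') (hr'.symm.trans hr)
  have hcQ : E'.IsCentric Q' := hr2 ▸ h.centric_of_hom hc hφ'
  haveI := finite_aut θ Q'
  set x := MulAut.congr (homEquiv hφ hr) a with hxdef
  have hxA : x ∈ Aut F θ E' p Q' := h.congr_mem_Aut hc.1 (hQ'.trans h.hT') hφ hr ha
  have hxk : x ^ p ^ k = 1 := by rw [hxdef, ← map_pow, hk, map_one]
  have hxp := h.Aut_le_pre hQ' hxA
  obtain ⟨P, hP⟩ := h.exists_P0_sylow hQ' hfull (le_refl _) inf_le_right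
  have hpg : IsPGroup p (Subgroup.zpowers x) := by
    obtain ⟨j, -, hj⟩ := (Nat.dvd_prime_pow (Fact.out : p.Prime)).1 (orderOf_dvd_of_pow_eq_one hxk)
    exact IsPGroup.iff_card.2 ⟨j, by rw [Nat.card_zpowers, hj]⟩
  obtain ⟨g, hg, hgc⟩ := exists_conj_le_sylow P hP (T := Subgroup.zpowers x) (Subgroup.zpowers_le.2 hxp) hpg
  obtain ⟨hyS, hyp⟩ := hgc _ (Subgroup.mem_zpowers x)
  obtain ⟨w, hw, hwy⟩ := h.P0_decomp hQ' hfull hyS hyp
  have hyA := h.conj_mem_Aut hQ' hg.1 hxA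
  have h1 := h.Aut_inf_Ker_full hcQ hfull (mul_mem (inv_mem (h.autT_le_Aut hQ' hw)) hyA) hwy
  have h2 : g * x * g⁻¹ ∈ TT F θ T' Q' := h.autT_subset_TT hQ' (by
    have := mul_mem hw h1
    rwa [mul_inv_cancel_left] at this)
  have h3 := h.conj_mem_TT ((F.autGroup _).inv_mem hg.1) h2
  rw [show g⁻¹ * (g * x * g⁻¹) * g⁻¹⁻¹ = x by group] at h3
  obtain ⟨ψ, hψ, hψr, hl, -⟩ := exists_inv hφ hr
  have h4 := h.TT_congr hψ hψr h3
  rwa [hxdef, congr_inv hφ hr hψ hψr hl] at h4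

theorem restr_Aut {R' V' : Subgroup Ω'} (hV : E'.IsCentric V') (hRV : R' ≤ V')
    {a : MulAut ↥(preimageAlong θ V')} {b : MulAut ↥(preimageAlong θ R')}
    (hres : Restr (preimageAlong_mono hRV) a b) (ha : a ∈ Aut F θ E' p V') : b ∈ Aut F θ E' p R' := by
  haveI := finite_aut θ V'
  have hR' : R' ≤ T' := hRV.trans hV.1
  obtain ⟨q, hq, j, hj⟩ := exists_pow_pElement (p := p) a
  obtain ⟨i, hi⟩ := FusionP3.GT.exists_pow_coprime (p := p) a
  refine mem_of_two_pow hq (k := i) ?_ ?_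
  · exact Subgroup.subset_closure (Or.inr (h.restr_TT hRV hR' (hres.pow q)
      (h.pElement_mem_TT hV (pow_mem ha q) (k := j) (by rw [← hj, pow_orderOf_eq_one]))))
  · refine Subgroup.subset_closure (Or.inl ⟨?_, ?_⟩)
    · obtain ⟨-, b', hb', hab'⟩ := h.Aut_le_pre hV.1 (pow_mem ha (p ^ i))
      refine ⟨(hres.pow (p ^ i)).mem_autGroup (preimageAlong_le θ V') (h.Aut_le_pre hV.1 (pow_mem ha (p ^ i))).1, ?_⟩
      haveI := h.finiteT'
      obtain ⟨φ, hφ, -, hφe⟩ := exists_hom_of_aut hV.1 hb'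
      obtain ⟨φ₁, hφ₁, he₁⟩ := exists_restrict hφ hRV
      have key : ∀ x, φ₁ (proj θ R' x) = ((proj θ R' ((b ^ p ^ i) x) : R') : Ω') := fun x => by
        rw [he₁, hφe, show (⟨((proj θ R' x : R') : Ω'), hRV (proj θ R' x).2⟩ : V') =
          proj θ V' (Subgroup.inclusion (preimageAlong_mono hRV) x) from Subtype.ext rfl, hab']
        exact proj_congr ((hres.pow _) x)
      haveI := finite_sub hR'
      have hr₁ : φ₁.range = R' := range_eq_of_mem hφ₁ (fun y => by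
        obtain ⟨x, rfl⟩ := h.proj_surjective (hR'.trans h.hT') y
        rw [key]; exact SetLike.coe_mem _) le_rfl
      exact ⟨homEquiv hφ₁ hr₁, homEquiv_mem_autGroup hφ₁ hr₁, fun x => Subtype.ext (key x)⟩
    · refine Nat.Coprime.coprime_dvd_left (orderOf_dvd_of_pow_eq_one ?_) hi
      exact ((hres.pow (p ^ i)).pow _).unique (by rw [pow_orderOf_eq_one]; exact Restr.one)

/-- The automizer covers the automizer of the subsystem. -/
theorem exists_Aut_lift {R' : Subgroup Ω'} (hR' : R' ≤ T') {b : MulAut R'} (hb : b ∈ E'.autGroup R') :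
    ∃ a ∈ Aut F θ E' p R', Rel θ a b := by
  haveI := h.finiteT'
  haveI := finite_sub hR'
  haveI := FusionP3.GT.finite_mulAut ↥R'
  -- reduce to a fully normalised conjugate
  obtain ⟨Q', hQ', φ, hφ, hr, hfull⟩ := h.exists_full hR'
  obtain ⟨φ', hφ', hi, hr'⟩ := h.exists_ind (hR'.trans h.hT') hφ
  have hr2 : φ'.range = Q' := h.preimage_injective (range_le_base hφ') (hQ'.trans h.hT') (hr'.symm.trans hr)
  haveI := finite_sub hQ'
  haveI := FusionP3.GT.finite_mulAut ↥Q'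
  haveI := finite_aut θ Q'
  let B : Subgroup (MulAut Q') :=
    { carrier := {b | ∃ a ∈ Aut F θ E' p Q', Rel θ a b}
      one_mem' := ⟨1, one_mem _, Rel.one⟩
      mul_mem' := fun ⟨a, ha, e⟩ ⟨a', ha', e'⟩ => ⟨a * a', mul_mem ha ha', e.mul e'⟩
      inv_mem' := fun ⟨a, ha, e⟩ => ⟨a⁻¹, inv_mem ha, e.inv⟩ }
  have hcover : E'.autGroup Q' ≤ B := by
    intro c hc
    obtain ⟨q, hq, j, hj⟩ := exists_pow_pElement (p := p) c
    obtain ⟨a, haF, hac⟩ := h.exists_rel_lift (hQ'.trans h.hT') (FusionP3.GT.autGroup_mono h.sub' hQ' hc)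
    obtain ⟨i, hi'⟩ := FusionP3.GT.exists_pow_coprime (p := p) a
    refine mem_of_two_pow hq (k := i) ?_ ?_
    swap
    · exact ⟨a ^ p ^ i, Subgroup.subset_closure (Or.inl ⟨pow_mem (⟨haF, c, hc, hac⟩ : a ∈ pre F θ E' Q') _, hi'⟩),
        hac.pow _⟩
    have hRfull := h.fullE hQ' (h.full_of_full (hQ'.trans h.hT') hfull)
    obtain ⟨R₀, hR₀⟩ := (fullyAutomized_of_fullyNormalized h.pgroupT' h.esat hRfull).2
    have hpg : IsPGroup p (Subgroup.zpowers (c ^ q)) := IsPGroup.iff_card.2 ⟨j, by rw [Nat.card_zpowers, hj]⟩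
    obtain ⟨g, hg, hgc⟩ := exists_conj_le_sylow R₀ hR₀ (T := Subgroup.zpowers (c ^ q))
      (Subgroup.zpowers_le.2 (pow_mem hc q)) hpg
    obtain ⟨t', ht', hte⟩ := mem_autInducedBy.1 (hgc _ (Subgroup.mem_zpowers (c ^ q)))
    obtain ⟨t, rfl⟩ := h.hr.ge (h.hT' ht')
    have htn : (t : Ω) ∈ normalizerIn S (preimageAlong θ Q') :=
      (mem_normalizerIn_preimage h.hr (hQ'.trans h.hT') t).1 ⟨h.hr.le ⟨t, rfl⟩, mem_normalizer_of_aut hte⟩
    set w : MulAut ↥(preimageAlong θ Q') := (preimageAlong θ Q').normalizerMonoidHom ⟨t, htn.2⟩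
    have hwm : w ∈ autInducedBy (preimageAlong θ T') (preimageAlong θ Q') :=
      mem_autInducedBy.2 ⟨t, mem_preimageAlong.2 ⟨t.2, ht'⟩, fun _ => rfl⟩
    obtain ⟨b₁, hb₁, hb₁e⟩ := h.rel_conj (hQ'.trans h.hT') (s := t) (a := w) fun _ => rfl
    obtain rfl : b₁ = g * c ^ q * g⁻¹ := MulEquiv.ext fun y => Subtype.ext ((hb₁e y).trans (hte y).symm)
    obtain ⟨g₁, hg₁, hg₁e⟩ := h.exists_rel_lift (hQ'.trans h.hT') (FusionP3.GT.autGroup_mono h.sub' hQ' hg)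
    refine ⟨g₁⁻¹ * w * g₁⁻¹⁻¹, h.conj_mem_Aut hQ' (inv_mem hg₁) (h.autT_le_Aut hQ' hwm), ?_⟩
    have h1 := (hg₁e.inv.mul hb₁).mul hg₁e.inv.inv
    rwa [show g⁻¹ * (g * c ^ q * g⁻¹) * g⁻¹⁻¹ = c ^ q by group] at h1
  haveI := h.finite'
  obtain ⟨a', ha', hab'⟩ := hcover (FusionP3.Prime.Normality.congr_mem_aut h.inv' hR' hφ' hr2 hb)
  obtain ⟨ψ, hψ, hψr, hl, hlr⟩ := exists_inv hφ hr
  obtain ⟨ψ', hψ', hψi, hψr'⟩ := h.exists_ind (hQ'.trans h.hT') hψ
  have hψr2 : ψ'.range = R' :=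
    h.preimage_injective (range_le_base hψ') (hR'.trans h.hT') (hψr'.symm.trans hψr)
  refine ⟨MulAut.congr (homEquiv hψ hψr) a', h.congr_mem_Aut hQ' (hR'.trans h.hT') hψ hψr ha', ?_⟩
  have h1 := h.rel_congr hψ hψr hψ' hψr2 hψi hab'
  rwa [congr_inv hφ' hr2 hψ' hψr2 (fun y hy => by
    obtain ⟨x, rfl⟩ := h.proj_surjective (hR'.trans h.hT') y
    have hx : φ x ∈ preimageAlong θ Q' := hr.le ⟨x, rfl⟩
    have h2 := hψi ⟨φ x, hx⟩
    rw [show proj θ Q' ⟨φ x, hx⟩ = ⟨φ' (proj θ R' x), hy⟩ from Subtype.ext (hi x).symm] at h2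
    rw [h2, proj_coe]
    exact congrArg θ (Subtype.ext (hl x hx))) b] at h1

end Setup

end Cfsg.Agent.Lib.FS.CentralLift
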