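import Cfsg.Agent.Lib.FusionSystem.CentralLift.Claim
import Cfsg.Agent.Lib.FusionP3.Criterion.Main

/-!
A normal subsystem of a central quotient lifts to a weakly normal subsystem.
-/

set_option autoImplicit false
set_option linter.style.haveILetI false
set_option linter.unusedSectionVars false
set_option maxHeartbeats 1000000

namespace Cfsg.Agent.Lib.FS.CentralLift

open Cfsg Cfsg.FusionSystem Cfsg.Agent.Lib.FS

variable {Ω : Type*} [Group Ω] {S : Subgroup Ω} {Ω' : Type*} [Group Ω'] {S' T' : Subgroup Ω'}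
variable [Finite S] {p : ℕ} [Fact p.Prime] {F : FusionSystem S} {θ : S →* Ω'} {F' : FusionSystem S'}
variable {E' : FusionSystem T'} (h : Setup F θ F' E' p)
include h

namespace Setup

theorem good_fullyAutomized {Q' : Subgroup Ω'} (hQ : Good F θ E' Q') :
    (lifted F θ E' p).IsFullyAutomized p (preimageAlong θ Q') := by
  have hQT : Q' ≤ T' := hQ.centric.1
  have hle := preimageAlong_mono (θ := θ) hQT
  have hQS : Q' ≤ S' := hQT.trans h.hT'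
  refine ⟨hle, ?_⟩
  haveI := h.finiteT'
  haveI := finite_sub hQT
  haveI := FusionP3.GT.finite_mulAut ↥Q'
  haveI := finite_aut θ Q'
  set A := (lifted F θ E' p).autGroup (preimageAlong θ Q')
  set AT := autInducedBy (preimageAlong θ T') (preimageAlong θ Q')
  have hATA : AT ≤ A := autInducedBy_le_autGroup _ hle
  obtain ⟨X, hX⟩ := (((isPGroup_autInducedBy h.hS _).to_le (h.autT_le_autS Q')).of_equiv
    (Subgroup.subgroupOfEquivOfLe hATA).symm).exists_le_sylow (G := A)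
  refine ⟨X, le_antisymm (fun x hx => ?_) hX⟩
  let XE : Subgroup (MulAut Q') :=
    { carrier := {b | b ∈ E'.autGroup Q' ∧ ∃ y : A, y ∈ X ∧ Rel θ (y : MulAut ↥(preimageAlong θ Q')) b}
      one_mem' := ⟨one_mem _, 1, one_mem _, Rel.one⟩
      mul_mem' := fun ⟨hb, y, hy, e⟩ ⟨hb', y', hy', e'⟩ => ⟨mul_mem hb hb', y * y', mul_mem hy hy', e.mul e'⟩
      inv_mem' := fun ⟨hb, y, hy, e⟩ => ⟨inv_mem hb, y⁻¹, inv_mem hy, e.inv⟩ }
  have hXE : IsPGroup p (XE.subgroupOf (E'.autGroup Q')) := by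
    rintro ⟨⟨b, hb⟩, hbX⟩
    obtain ⟨-, y, hy, e⟩ := Subgroup.mem_subgroupOf.1 hbX
    obtain ⟨k, hk⟩ := X.isPGroup' ⟨y, hy⟩
    refine ⟨k, Subtype.ext (Subtype.ext ?_)⟩
    have h1 : (y : MulAut ↥(preimageAlong θ Q')) ^ p ^ k = 1 := by
      have h0 := congrArg (fun z : X => ((z : A) : MulAut ↥(preimageAlong θ Q'))) hk
      simpa using h0
    have h2 := e.pow (p ^ k)
    rw [h1] at h2
    exact h.rel_unique hQS h2 Rel.one
  obtain ⟨R₀, hR₀⟩ := (fullyAutomized_of_fullyNormalized h.pgroupT' h.esat hQ.full).2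
  have hle₀ : (R₀ : Subgroup (E'.autGroup Q')) ≤ XE.subgroupOf (E'.autGroup Q') := by
    rw [hR₀]
    intro b hb
    obtain ⟨t', ht', hte⟩ := mem_autInducedBy.1 (Subgroup.mem_subgroupOf.1 hb)
    obtain ⟨t, rfl⟩ := h.hr.ge (h.hT' ht')
    have htn : (t : Ω) ∈ normalizerIn S (preimageAlong θ Q') :=
      (mem_normalizerIn_preimage h.hr hQS t).1 ⟨h.hr.le ⟨t, rfl⟩, mem_normalizer_of_aut hte⟩
    set w : MulAut ↥(preimageAlong θ Q') := (preimageAlong θ Q').normalizerMonoidHom ⟨t, htn.2⟩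
    have hw : w ∈ AT := mem_autInducedBy.2 ⟨t, mem_preimageAlong.2 ⟨t.2, ht'⟩, fun _ => rfl⟩
    obtain ⟨b₁, hb₁, hb₁e⟩ := h.rel_conj hQS (s := t) (a := w) fun _ => rfl
    refine Subgroup.mem_subgroupOf.2 ⟨b.2, ⟨w, hATA hw⟩, hX (Subgroup.mem_subgroupOf.2 hw), ?_⟩
    rwa [show b₁ = (b : MulAut Q') from MulEquiv.ext fun y => Subtype.ext ((hb₁e y).trans (hte y).symm)] at hb₁
  obtain ⟨hxF, b, hb, hxb⟩ := h.lifted_aut_le_pre hQT x.2
  have hbR : (⟨b, hb⟩ : E'.autGroup Q') ∈ (R₀ : Subgroup (E'.autGroup Q')) := by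
    rw [← R₀.is_maximal' hXE hle₀]; exact Subgroup.mem_subgroupOf.2 ⟨hb, x, hx, hxb⟩
  rw [hR₀] at hbR
  obtain ⟨t', ht', hte⟩ := mem_autInducedBy.1 (Subgroup.mem_subgroupOf.1 hbR)
  obtain ⟨t, rfl⟩ := h.hr.ge (h.hT' ht')
  have htn : (t : Ω) ∈ normalizerIn S (preimageAlong θ Q') :=
    (mem_normalizerIn_preimage h.hr hQS t).1 ⟨h.hr.le ⟨t, rfl⟩, mem_normalizer_of_aut hte⟩
  set w : MulAut ↥(preimageAlong θ Q') := (preimageAlong θ Q').normalizerMonoidHom ⟨t, htn.2⟩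
  have hw : w ∈ AT := mem_autInducedBy.2 ⟨t, mem_preimageAlong.2 ⟨t.2, ht'⟩, fun _ => rfl⟩
  obtain ⟨b₁, hb₁, hb₁e⟩ := h.rel_conj hQS (s := t) (a := w) fun _ => rfl
  obtain rfl : b₁ = b := MulEquiv.ext fun y => Subtype.ext ((hb₁e y).trans (hte y).symm)
  have hker : w⁻¹ * (x : MulAut ↥(preimageAlong θ Q')) ∈ Ker F θ Q' :=
    ⟨mul_mem (inv_mem (h.autT_le_aut Q' hw)) hxF, by simpa using hb₁.inv.mul hxb⟩
  have h3 := hQ.inner _ hker (h.Aut_inf_Ker hQ.centric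
    (mul_mem (inv_mem (h.autT_le_Aut hQT hw)) (h.autGroup_lifted_le Q' hQ.centric x.2)) hker)
  have h4 := mul_mem hw h3
  rw [mul_inv_cancel_left] at h4
  exact Subgroup.mem_subgroupOf.2 h4

theorem good_receptive {Q' : Subgroup Ω'} (hQ : Good F θ E' Q') :
    (lifted F θ E' p).IsReceptive (preimageAlong θ Q') := by
  have hQT : Q' ≤ T' := hQ.centric.1
  have hQS : Q' ≤ S' := hQT.trans h.hT'
  haveI := h.finiteT'
  refine ⟨preimageAlong_mono hQT, fun X φ hφ hr => ?_⟩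
  obtain ⟨ψ, hψ, hψr, -, -⟩ := exists_inv hφ hr
  obtain ⟨eψ, heψ, -, hXe⟩ := h.lifted_ind hQS hψ
  rw [hψr] at hXe
  subst hXe
  obtain ⟨R', hR'⟩ : ∃ R', eψ.range = R' := ⟨_, rfl⟩
  have hRT : R' ≤ T' := hR' ▸ range_le_base heψ
  revert φ
  rw [hR']
  intro φ hφ hr
  have hRS : R' ≤ S' := hRT.trans h.hT'
  obtain ⟨e, he, hi, hre⟩ := h.lifted_ind hRS hφ
  have her : e.range = Q' := h.preimage_injective ((range_le_base he).trans h.hT') hQS (hre.symm.trans hr)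
  obtain ⟨β, hβ, hβe⟩ := (receptive_of_fullyNormalized h.pgroupT' h.esat hQ.full).2 R' e he her
  set N' := extender T' R' e
  have hRN : R' ≤ N' := le_extender hRT (apply_mem he)
  obtain ⟨η, hη, hiη⟩ := h.exists_lifted hβ
  obtain ⟨η₁, hη₁, hη₁e⟩ := exists_restrict hη (preimageAlong_mono hRN)
  have hη₁i : ∀ x, θ ⟨η₁ x, apply_mem hη₁.1 x⟩ = θ ⟨φ x, apply_mem hφ.1 x⟩ := fun x => by
    rw [← hi, ← hβe _ (proj θ R' x).2 (hRN (proj θ R' x).2),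
      show (⟨((proj θ R' x : R') : Ω'), hRN (proj θ R' x).2⟩ : N') = proj θ N' ⟨x, preimageAlong_mono hRN x.2⟩
        from Subtype.ext rfl, hiη]
    exact congrArg θ (Subtype.ext (hη₁e x))
  obtain ⟨e₁, he₁, hi₁, hr₁⟩ := h.lifted_ind hRS hη₁
  have hee : e₁ = e := MonoidHom.ext fun y => by
    obtain ⟨x, rfl⟩ := h.proj_surjective hRS y
    rw [hi₁, hi, hη₁i]
  rw [hee, her] at hr₁
  obtain ⟨η₁', hη₁', hη₁'r, hl, hrr⟩ := exists_inv hη₁ hr₁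
  obtain ⟨k₀, hk₀, hk₀e⟩ := exists_comp hη₁' hφ fun x => hη₁'r.le ⟨x, rfl⟩
  haveI := finite_sub (preimageAlong_le θ Q')
  have hk₀r : k₀.range = preimageAlong θ Q' :=
    range_eq_of_mem hk₀ (fun x => hk₀e x ▸ hr.le ⟨_, rfl⟩) le_rfl
  have hk : homEquiv hk₀ hk₀r ∈ Ker F θ Q' := by
    refine ⟨mem_autGroup_of_hom hk₀.1 fun _ => rfl, fun y => Subtype.ext ?_⟩
    obtain ⟨x, rfl⟩ := (homEquiv hη₁ hr₁).surjective y
    rw [MulAut.one_apply, proj_coe, proj_coe]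
    refine Eq.trans (hη₁i x) (congrArg θ (Subtype.ext ?_))
    rw [homEquiv_coe, hk₀e]
    exact congrArg φ (Subtype.ext (hl x _).symm)
  obtain ⟨t, ht, hte⟩ := mem_autInducedBy.1 (hQ.inner _ hk (h.Aut_inf_Ker hQ.centric
    (h.autGroup_lifted_le Q' hQ.centric (homEquiv_mem_autGroup hk₀ hk₀r)) hk))
  have hN : extender (preimageAlong θ T') (preimageAlong θ R') φ ≤ preimageAlong θ N' := by
    intro g hg
    obtain ⟨hgT, hgn, u, hu, hue⟩ := mem_extender.1 hg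
    obtain ⟨hgS, hgT'⟩ := mem_preimageAlong.1 hgT
    obtain ⟨huS, huT'⟩ := mem_preimageAlong.1 hu
    have hgN := (mem_normalizerIn_preimage h.hr hRS ⟨g, hgS⟩).2 ⟨hgS, hgn⟩
    refine mem_preimageAlong.2 ⟨hgS, mem_extender_of ⟨hgT', hgN.2⟩ huT' fun y hy => ?_⟩
    obtain ⟨x, rfl⟩ := h.proj_surjective hRS y
    have hgx := conj_mem_of_normalizer hgn x.2
    have e1 : (⟨θ ⟨g, hgS⟩ * (proj θ R' x : R') * (θ ⟨g, hgS⟩)⁻¹, hy⟩ : R') = proj θ R' ⟨g * x * g⁻¹, hgx⟩ :=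
      Subtype.ext (by
        show θ ⟨g, hgS⟩ * θ ⟨(x : Ω), _⟩ * (θ ⟨g, hgS⟩)⁻¹ = _
        rw [← map_inv, ← map_mul, ← map_mul]; rfl)
    rw [e1, hi, hi, ← map_inv, ← map_mul, ← map_mul]
    exact congrArg θ (Subtype.ext (hue x hgx))
  obtain ⟨η₂, hη₂, hη₂e⟩ := exists_restrict hη hN
  have htS := preimageAlong_le θ T' ht
  obtain ⟨χ, hχ, hχe⟩ := exists_comp hη₂ ((lifted F θ E' p).conj_mem le_rfl ht) fun x =>
    apply_mem hη₂ x
  refine ⟨χ, hχ, fun x hx hxN => ?_⟩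
  rw [hχe, conjHom_apply]
  have h5 := hte (homEquiv hη₁ hr₁ ⟨x, hx⟩)
  rw [homEquiv_coe, hk₀e, homEquiv_coe] at h5
  refine Eq.trans ?_ (Eq.trans h5.symm (congrArg φ (Subtype.ext (hl ⟨x, hx⟩ _))))
  show t * η₂ ⟨x, hxN⟩ * t⁻¹ = _
  rw [hη₂e, hη₁e]

/-- The lifted system is saturated. -/
theorem lifted_isSaturated : (lifted F θ E' p).IsSaturated p := by
  haveI := h.finite'
  haveI := h.finiteT'
  haveI := finite_sub (preimageAlong_le θ T')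
  refine FusionP3.Criterion.isSaturated (ℋ := {P | ∃ R' : Subgroup Ω', E'.IsCentric R' ∧ P = preimageAlong θ R'})
    (h.hS.to_le (preimageAlong_le θ T')) ?_ ?_ ?_ ?_
  · rintro _ ⟨R', hc, rfl⟩ Q ⟨φ, hφ, hr⟩
    obtain ⟨e, he, -, hre⟩ := h.lifted_ind (hc.1.trans h.hT') hφ
    exact ⟨e.range, Cfsg.Agent.Lib.Transfer.FusionLocal.isCentric_of_isConj ⟨e, he, rfl⟩ hc, hr.symm.trans hre⟩
  · rintro _ ⟨R', hc, rfl⟩
    obtain ⟨Q', hQ, e, he, hre⟩ := h.exists_good hc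
    obtain ⟨φ, hφ, hi⟩ := h.exists_lifted he
    obtain ⟨e', he', hi', hr'⟩ := h.lifted_ind (hc.1.trans h.hT') hφ
    have hee : e' = e := MonoidHom.ext fun y => by
      obtain ⟨x, rfl⟩ := h.proj_surjective (hc.1.trans h.hT') y
      rw [hi', hi]
    rw [hee, hre] at hr'
    exact ⟨_, ⟨φ, hφ, hr'⟩, h.good_fullyAutomized hQ, h.good_receptive hQ⟩
  · intro E hE P φ hφ
    refine hφ.2.2.2 E fun R' hR' a ha => ?_
    have hle := preimageAlong_mono (θ := θ) hR'.1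
    exact (mem_autGroup hle).2 (hE _ ⟨R', hR', rfl⟩ ((mem_autGroup hle).1 (h.contains_lifted R' hR' ha)))
  · intro P hP hPH
    have hZ : θ.ker.map S.subtype ≤ P := by
      intro z hz
      obtain ⟨s, hs, rfl⟩ := hz
      refine hP.2 P (isConj_refl _ hP.1) ⟨mem_preimageAlong.2 ⟨s.2, ?_⟩, fun y hy =>
        h.comm_ker ⟨s, hs, rfl⟩ (preimageAlong_le θ T' (hP.1 hy))⟩
      show θ s ∈ T'
      rw [show θ s = 1 from hs]; exact T'.one_mem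
    have hPS : P ≤ S := hP.1.trans (preimageAlong_le θ T')
    set Q' := imageAlong θ P
    have hQT : Q' ≤ T' := by
      rintro _ ⟨s, hs, rfl⟩; exact (mem_preimageAlong.1 (hP.1 hs)).2
    have hPQ : preimageAlong θ Q' = P := h.eq_preimage hZ hPS
    obtain ⟨Q₂, ⟨e, he, hre⟩, hnle⟩ : ∃ Q₂, E'.IsConj Q' Q₂ ∧ ¬ centralizerIn T' Q₂ ≤ Q₂ := by
      by_contra hno
      exact hPH ⟨Q', ⟨hQT, fun Q hQ => by by_contra hh; exact hno ⟨Q, hQ, hh⟩⟩, hPQ.symm⟩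
    obtain ⟨φ, hφ, hi⟩ := h.exists_lifted he
    obtain ⟨e', he', hi', hr'⟩ := h.lifted_ind (hQT.trans h.hT') hφ
    have hee : e' = e := MonoidHom.ext fun y => by
      obtain ⟨x, rfl⟩ := h.proj_surjective (hQT.trans h.hT') y
      rw [hi', hi]
    rw [hee, hre] at hr'
    have hconj : (lifted F θ E' p).IsConj P (preimageAlong θ Q₂) := hPQ ▸ ⟨φ, hφ, hr'⟩
    refine ⟨_, hconj, fun hle => ?_⟩
    obtain ⟨c, hc, hcQ⟩ := SetLike.not_le_iff_exists.1 hnle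
    obtain ⟨t, rfl⟩ := h.hr.ge (h.hT' hc.1)
    have hQ₂T : Q₂ ≤ T' := hre ▸ range_le_base he
    have hQ₂S : Q₂ ≤ S' := hQ₂T.trans h.hT'
    have htn : (t : Ω) ∈ normalizerIn S (preimageAlong θ Q₂) :=
      (mem_normalizerIn_preimage h.hr hQ₂S t).1
        ⟨h.hr.le ⟨t, rfl⟩, Subgroup.centralizer_le_normalizer _ hc.2⟩
    have htT : (t : Ω) ∈ preimageAlong θ T' := mem_preimageAlong.2 ⟨t.2, hc.1⟩
    set w : MulAut ↥(preimageAlong θ Q₂) := (preimageAlong θ Q₂).normalizerMonoidHom ⟨t, htn.2⟩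
    have hw : w ∈ autInducedBy (preimageAlong θ T') (preimageAlong θ Q₂) :=
      mem_autInducedBy.2 ⟨t, htT, fun _ => rfl⟩
    set A := (lifted F θ E' p).autGroup (preimageAlong θ Q₂)
    have hwA : w ∈ A := autInducedBy_le_autGroup _ (preimageAlong_mono hQ₂T) hw
    have hwK : w ∈ Ker F θ Q₂ := by
      refine ⟨h.autT_le_aut Q₂ hw, fun x => Subtype.ext ?_⟩
      rw [MulAut.one_apply, proj_coe, proj_coe]
      show θ ⟨(x : Ω), preimageAlong_le θ Q₂ x.2⟩ = _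
      rw [show (⟨((w x : ↥(preimageAlong θ Q₂)) : Ω), preimageAlong_le θ Q₂ (w x).2⟩ : S) =
        t * ⟨(x : Ω), preimageAlong_le θ Q₂ x.2⟩ * t⁻¹ from Subtype.ext rfl, map_mul, map_mul, map_inv,
        eq_mul_inv_iff_mul_eq]
      exact hc.2 _ (mem_preimageAlong.1 x.2).2
    haveI := finite_aut θ Q₂
    haveI hn : ((Ker F θ Q₂).subgroupOf A).Normal := ⟨fun k hk g => Subgroup.mem_subgroupOf.2
      (h.conj_mem_Ker hQ₂S (h.lifted_aut_le_pre hQ₂T g.2).1 (Subgroup.mem_subgroupOf.1 hk))⟩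
    have hp : IsPGroup p ((Ker F θ Q₂).subgroupOf A) :=
      h.ker_pgroup.comap_of_injective A.subtype A.subtype_injective
    have hcore : w ∈ (pCore p A).map A.subtype :=
      ⟨⟨w, hwA⟩, Cores.le_pCore hp (Subgroup.mem_subgroupOf.2 hwK), rfl⟩
    obtain ⟨q, hq⟩ := hle ⟨hw, hcore⟩
    have hqt : (q : Ω)⁻¹ * t ∈ centralizerIn (preimageAlong θ T') (preimageAlong θ Q₂) := by
      refine mem_centralizerIn'.2 ⟨mul_mem (inv_mem (preimageAlong_mono hQ₂T q.2)) htT, fun x hx => ?_⟩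
      have h1 := congrArg (fun z : MulAut ↥(preimageAlong θ Q₂) => ((z ⟨x, hx⟩ : ↥(preimageAlong θ Q₂)) : Ω)) hq
      simp only [MulAut.conj_apply, Subgroup.coe_mul, Subgroup.coe_inv] at h1
      have h1' : (q : Ω) * x * (q : Ω)⁻¹ = t * x * (t : Ω)⁻¹ := h1
      calc (q : Ω)⁻¹ * t * x * ((q : Ω)⁻¹ * t)⁻¹ = (q : Ω)⁻¹ * (t * x * (t : Ω)⁻¹) * q := by group
        _ = x := by rw [← h1']; group
    have hmem : (t : Ω) ∈ preimageAlong θ Q₂ := by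
      have h2 := mul_mem q.2 (hP.2 _ hconj hqt)
      rwa [mul_inv_cancel_left] at h2
    exact hcQ (mem_preimageAlong.1 hmem).2

theorem aut_restrict {α : MulAut ↥(preimageAlong θ T')} (hα : α ∈ F.autGroup (preimageAlong θ T'))
    {R : Subgroup Ω} (hR : R ≤ preimageAlong θ T') : FusionP3.Prime.autRes α hR ∈ F.Hom R := by
  obtain ⟨g, hg, -, hge⟩ := exists_hom_of_aut (preimageAlong_le θ T') hα
  exact mem_of_restrict hg hR fun x => (hge _).symm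

theorem lifted_inv {α : MulAut ↥(preimageAlong θ T')} (hα : α ∈ F.autGroup (preimageAlong θ T')) :
    FusionP3.Prime.Inv (lifted F θ E' p) α := by
  haveI := finite_sub (preimageAlong_le θ T')
  have hcont : Contains F θ E' p (FusionP3.Prime.pull (lifted F θ E' p) α) := by
    intro R' hR' a ha
    have hle := preimageAlong_mono (θ := θ) hR'.1
    have hres := h.aut_restrict hα hle
    have hrange := FusionP3.Prime.autRes_range α hle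
    obtain ⟨g', hg', -, hgr⟩ := h.exists_ind (hR'.1.trans h.hT') hres
    have hQT : g'.range ≤ T' := by
      rintro _ ⟨y, rfl⟩; exact h.scT'.2 R' hR'.1 g' hg' y
    have hcQ := h.centric_of_hom hR' hg'
    have ha' := h.contains_lifted _ hcQ (h.congr_mem_Aut hR'.1 (hQT.trans h.hT') hres hgr ha)
    obtain ⟨τ, hτ, -, hτe⟩ := exists_hom_of_aut (preimageAlong_mono hQT) ha'
    obtain ⟨χ, hχ, hχe⟩ := exists_restrict hτ (hrange.symm.trans hgr).le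
    refine (mem_autGroup hle).2 ⟨hle, fun x => hle (a x).2, χ, hχ, fun x hx hφx hαx => ?_⟩
    rw [hχe, hτe, show (⟨((α ⟨(x : Ω), hx⟩ : ↥(preimageAlong θ T')) : Ω), (hrange.symm.trans hgr).le hαx⟩ :
      ↥(preimageAlong θ g'.range)) = homEquiv hres hgr x from Subtype.ext rfl, congr_apply_map]
    rfl
  intro P hP φ hφ
  obtain ⟨-, -, χ, hχ, he⟩ := lifted_least hcont P hφ
  exact ⟨χ, hχ, fun x => he x _⟩

theorem lifted_frattini {P : Subgroup Ω} (hP : P ≤ preimageAlong θ T') {φ : P →* Ω} (hφ : φ ∈ F.Hom P) :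
    ∃ α ∈ F.autGroup (preimageAlong θ T'), ∃ φ₀ ∈ (lifted F θ E' p).Hom P,
      ∀ (x : P) (hx : φ₀ x ∈ preimageAlong θ T'), φ x = ((α ⟨φ₀ x, hx⟩ : ↥(preimageAlong θ T')) : Ω) := by
  haveI := h.finite'
  haveI := h.finiteT'
  haveI := finite_sub (preimageAlong_le θ T')
  set P' := imageAlong θ P
  obtain ⟨ψ, hψ, hψe⟩ := h.extend_preimage hφ
  have hP' : P' ≤ T' := by
    rintro _ ⟨s, hs, rfl⟩; exact (mem_preimageAlong.1 (hP hs)).2
  have hPS : P' ≤ S' := hP'.trans h.hT'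
  obtain ⟨ψ', hψ', hψi, -⟩ := h.exists_ind hPS hψ
  obtain ⟨α, hα, e, he, hd⟩ := h.inv'.2.2.2 P' hP' ψ' hψ'
  obtain ⟨Γ, hΓ, hΓα⟩ := h.exists_rel_lift h.hT' hα
  obtain ⟨b, hb, hbi⟩ := h.exists_lifted he
  obtain ⟨eb, heb, hbi', hbr⟩ := h.lifted_ind hPS hb
  have hebe : eb = e := MonoidHom.ext fun y => by
    obtain ⟨x, rfl⟩ := h.proj_surjective hPS y
    rw [hbi', hbi]
  rw [hebe] at hbr
  have hψT : ∀ x, ψ x ∈ preimageAlong θ T' := fun x =>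
    stronglyClosed_apply_mem h.scT hψ (preimageAlong_mono hP' x.2)
  obtain ⟨γ, hγ, -, hγe⟩ := exists_hom_of_aut (preimageAlong_le θ T') ((F.autGroup _).inv_mem hΓ)
  obtain ⟨ψ₁, hψ₁, hψ₁e⟩ := exists_comp hψ hγ hψT
  have hψ₁θ : ∀ x, θ ⟨ψ₁ x, apply_mem hψ₁ x⟩ = θ ⟨b x, apply_mem hb.1 x⟩ := fun x => by
    have h1 := congrArg Subtype.val ((hΓα.inv) ⟨ψ x, hψT x⟩)
    rw [proj_coe] at h1
    rw [← hbi]
    have h2 : (⟨ψ₁ x, apply_mem hψ₁ x⟩ : S) = ⟨((Γ⁻¹ ⟨ψ x, hψT x⟩ : ↥(preimageAlong θ T')) : Ω),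
        preimageAlong_le θ T' (Γ⁻¹ _).2⟩ := Subtype.ext ((hψ₁e x).trans (hγe _))
    rw [h2, ← h1]
    have h3 : (proj θ T' ⟨ψ x, hψT x⟩ : T') = α ⟨e (proj θ P' x), apply_mem he _⟩ := Subtype.ext (by
      rw [proj_coe, ← hd _ (apply_mem he _)]
      exact (hψi x).symm)
    rw [h3, MulAut.inv_apply_self]
  set X' : Subgroup Ω' := e.range
  have hXT : X' ≤ T' := range_le_base he
  have hXS : X' ≤ S' := hXT.trans h.hT'
  obtain ⟨b', hb', hb'r, hlb, hrb⟩ := exists_inv hb hbr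
  obtain ⟨κ₀, hκ₀, hκ₀e⟩ := exists_comp hb'.1 hψ₁ fun y => hb'r.le ⟨y, rfl⟩
  have hκ₀X : ∀ y, κ₀ y ∈ preimageAlong θ X' := fun y => by
    refine mem_preimageAlong.2 ⟨apply_mem hκ₀ y, ?_⟩
    rw [show (⟨κ₀ y, apply_mem hκ₀ y⟩ : S) = ⟨_, apply_mem hψ₁ _⟩ from Subtype.ext (hκ₀e y), hψ₁θ, ← hbi]
    exact ⟨_, rfl⟩
  haveI := finite_sub (preimageAlong_le θ X')
  have hκr : κ₀.range = preimageAlong θ X' := range_eq_of_mem hκ₀ hκ₀X le_rfl
  have hκK : homEquiv hκ₀ hκr ∈ Ker F θ X' := by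
    refine ⟨homEquiv_mem_autGroup hκ₀ hκr, fun y => Subtype.ext ?_⟩
    rw [MulAut.one_apply, proj_coe, proj_coe]
    obtain ⟨x, hx⟩ := hbr.ge y.2
    have h1 : κ₀ y = ψ₁ x := by
      rw [hκ₀e]
      refine congrArg ψ₁ (Subtype.ext ?_)
      show b' y = x
      rw [show y = ⟨b x, hbr.le ⟨x, rfl⟩⟩ from Subtype.ext hx.symm, hlb]
    refine Eq.trans ?_ (congrArg θ (Subtype.ext ((homEquiv_coe hκ₀ hκr y).trans h1).symm :
      (⟨ψ₁ x, apply_mem hψ₁ x⟩ : S) = _))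
    rw [hψ₁θ]
    exact congrArg θ (Subtype.ext hx.symm)
  -- move to a fully normalised conjugate
  obtain ⟨Y', hY', φ₁, hφ₁, hr₁, hfull⟩ := h.exists_full hXT
  obtain ⟨φ₁', hφ₁', hi₁, hr₁'⟩ := h.exists_ind hXS hφ₁
  obtain ⟨α₁, hα₁, e₁, he₁, hd₁⟩ := h.inv'.2.2.2 X' hXT φ₁' hφ₁'
  obtain ⟨b₁, hb₁, hb₁i⟩ := h.exists_lifted he₁
  obtain ⟨Γ₁, hΓ₁, hΓ₁α⟩ := h.exists_rel_lift h.hT' hα₁
  obtain ⟨γ₁, hγ₁, -, hγ₁e⟩ := exists_hom_of_aut (preimageAlong_le θ T') hΓ₁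
  obtain ⟨m, hm, hme⟩ := exists_comp hb₁.1 hγ₁ hb₁.2.2.1
  obtain ⟨m', hm', hmi, hmr⟩ := h.exists_ind hXS hm
  have hmm : m' = φ₁' := MonoidHom.ext fun y => by
    obtain ⟨x, rfl⟩ := h.proj_surjective hXS y
    have h1 := congrArg Subtype.val (hΓ₁α ⟨b₁ x, hb₁.2.2.1 x⟩)
    rw [hmi, hd₁ _ (apply_mem he₁ _)]
    rw [show (⟨m x, apply_mem hm x⟩ : S) = ⟨((Γ₁ ⟨b₁ x, hb₁.2.2.1 x⟩ : ↥(preimageAlong θ T')) : Ω),
      preimageAlong_le θ T' (Γ₁ _).2⟩ from Subtype.ext ((hme x).trans (hγ₁e _))]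
    refine h1.symm.trans (congrArg (fun z : T' => ((α₁ z : T') : Ω')) (Subtype.ext ?_))
    exact (hb₁i x).symm
  have hr2 : φ₁'.range = Y' :=
    h.preimage_injective (range_le_base hφ₁') (hY'.trans h.hT') (hr₁'.symm.trans hr₁)
  rw [hmm, hr2] at hmr
  have hk := h.congr_mem_Ker hXS hm hmr (hY'.trans h.hT') hκK
  obtain ⟨s, hs, hse⟩ := mem_autInducedBy.1 (h.ker_le_autS (hY'.trans h.hT') hfull hk)
  have hsn : s ∈ Subgroup.normalizer (preimageAlong θ T' : Set Ω) := stronglyClosed_le_normalizer h.scT hs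
  set cs : MulAut ↥(preimageAlong θ T') := (preimageAlong θ T').normalizerMonoidHom ⟨s, hsn⟩
  have hcs : cs ∈ F.autGroup (preimageAlong θ T') :=
    autInducedBy_le_autGroup F (preimageAlong_le θ T') (mem_autInducedBy.2 ⟨s, hs, fun _ => rfl⟩)
  set α₂ := Γ₁⁻¹ * cs * Γ₁ with hα₂def
  have hα₂ : α₂ ∈ F.autGroup (preimageAlong θ T') := mul_mem (mul_mem (inv_mem hΓ₁) hcs) hΓ₁
  obtain ⟨eb₁, heb₁, hb₁i', hb₁r⟩ := h.lifted_ind hXS hb₁
  obtain ⟨b₁', hb₁', hb₁'r, hl₁, -⟩ := exists_inv hb₁ hb₁r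
  obtain ⟨bb, hbb, hbbe⟩ := exists_comp hb hb₁ fun x => hbr.le ⟨x, rfl⟩
  have hval : ∀ y : ↥(preimageAlong θ X'), α₂ ⟨b₁ y, hb₁.2.2.1 y⟩ = ⟨b₁ (homEquiv hκ₀ hκr y), hb₁.2.2.1 _⟩ := by
    intro y
    have h1 := hse (homEquiv hm hmr y)
    rw [congr_apply_map, homEquiv_coe, hme, hme, hγ₁e, hγ₁e] at h1
    apply Γ₁.injective
    rw [hα₂def, MulAut.mul_apply, MulAut.mul_apply, MulAut.apply_inv_self]
    exact Subtype.ext h1.symm
  have hm2 : ∀ x, ((α₂ ⟨bb x, apply_mem hbb x⟩ : ↥(preimageAlong θ T')) : Ω) ∈ preimageAlong θ eb₁.range :=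
    fun x => by
      rw [show (⟨bb x, apply_mem hbb x⟩ : ↥(preimageAlong θ T')) = ⟨b₁ ⟨b x, hbr.le ⟨x, rfl⟩⟩, hb₁.2.2.1 _⟩ from
        Subtype.ext (hbbe x), hval]
      exact hb₁r.le ⟨_, rfl⟩
  obtain ⟨e', he', he'e⟩ := FusionP3.Prime.exists_swap (α := α₂) (h.lifted_inv (inv_mem hα₂)) hbb hb₁' hm2
  obtain ⟨φ₀, hφ₀, hφ₀e⟩ := exists_restrict he' (le_preimageAlong_imageAlong (src_le hφ) : P ≤ preimageAlong θ P')
  refine ⟨Γ * α₂, mul_mem hΓ hα₂, φ₀, hφ₀, fun x hx => ?_⟩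
  set x' : ↥(preimageAlong θ P') := ⟨x, le_preimageAlong_imageAlong (src_le hφ) x.2⟩
  have h6 := he'e x' (apply_mem he' x')
  rw [MulAut.mul_apply, show (⟨φ₀ x, hx⟩ : ↥(preimageAlong θ T')) = ⟨e' x', apply_mem he' x'⟩ from
    Subtype.ext (hφ₀e x)]
  have h7 : ((α₂ ⟨e' x', apply_mem he' x'⟩ : ↥(preimageAlong θ T')) : Ω) = ψ₁ x' := by
    rw [← h6]
    set y : ↥(preimageAlong θ X') := ⟨b x', hbr.le ⟨x', rfl⟩⟩
    have h8 : ((α₂ ⟨bb x', apply_mem hbb x'⟩ : ↥(preimageAlong θ T')) : Ω) = b₁ (homEquiv hκ₀ hκr y) := by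
      rw [show (⟨bb x', apply_mem hbb x'⟩ : ↥(preimageAlong θ T')) = ⟨b₁ y, hb₁.2.2.1 _⟩ from
        Subtype.ext (hbbe x'), hval]
    refine Eq.trans (congrArg b₁' (Subtype.ext h8)) ((hl₁ _ (hb₁r.le ⟨_, rfl⟩)).trans ?_)
    rw [homEquiv_coe, hκ₀e]
    exact congrArg ψ₁ (Subtype.ext (hlb x' _))
  have h9 : (α₂ ⟨e' x', apply_mem he' x'⟩ : ↥(preimageAlong θ T')) = Γ⁻¹ ⟨ψ x', hψT x'⟩ :=
    Subtype.ext (h7.trans ((hψ₁e x').trans (hγe _)))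
  rw [h9, MulAut.apply_inv_self]
  exact (hψe x).symm

/-- **Lifting through a central quotient.** -/
theorem exists_lift_weaklyNormal :
    ∃ D : FusionSystem (preimageAlong θ T'), D.IsWeaklyNormalIn F p ∧
      ∀ (P : Subgroup Ω) (φ : P →* Ω), φ ∈ D.Hom P → ∃ e ∈ E'.Hom (imageAlong θ P), InducedAlong θ φ e :=
  ⟨lifted F θ E' p, ⟨h.lifted_isSaturated, h.hF, lifted_le F θ E' p, h.scT,
    fun P hP φ hφ α hα => h.lifted_inv hα P hP φ hφ, fun P hP φ hφ => h.lifted_frattini hP hφ⟩,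
    fun _ _ hφ => h.lifted_over hφ⟩

end Setup

end Cfsg.Agent.Lib.FS.CentralLift
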