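import Cfsg.Agent.Lib.FusionSystem.CentralLift.Lifted

/-!
The lifted subsystem, its image in the quotient and surjectivity onto the normal subsystem.
-/

set_option autoImplicit false
set_option linter.style.haveILetI false
set_option linter.unusedSectionVars false

namespace Cfsg.Agent.Lib.FS.CentralLift

open Cfsg Cfsg.FusionSystem Cfsg.Agent.Lib.FS

variable {Ω : Type*} [Group Ω] {S : Subgroup Ω} {Ω' : Type*} [Group Ω'] {S' T' : Subgroup Ω'}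

/-- The system contains the automizers. -/
def Contains (F : FusionSystem S) (θ : S →* Ω') (E' : FusionSystem T') (p : ℕ)
    (D : FusionSystem (preimageAlong θ T')) : Prop :=
  ∀ R' : Subgroup Ω', E'.IsCentric R' → Aut F θ E' p R' ≤ D.autGroup (preimageAlong θ R')

/-- The least system containing the automizers. -/
def lifted (F : FusionSystem S) (θ : S →* Ω') (E' : FusionSystem T') (p : ℕ) :
    FusionSystem (preimageAlong θ T') where
  Hom P := {φ | φ ∈ F.Hom P ∧ P ≤ preimageAlong θ T' ∧ (∀ x, φ x ∈ preimageAlong θ T') ∧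
    ∀ D, Contains F θ E' p D → φ ∈ D.Hom P}
  le_of_mem h := ⟨h.2.1, h.2.2.1⟩
  injective_of_mem h := F.injective_of_mem h.1
  conj_mem {P g} hP hg := ⟨F.conj_mem (hP.trans (preimageAlong_le θ T')) (preimageAlong_le θ T' hg), hP,
    fun x => mul_mem (mul_mem hg (hP x.2)) (inv_mem hg), fun D _ => D.conj_mem hP hg⟩
  comp_mem hφ hψ hm := ⟨F.comp_mem hφ.1 hψ.1 hm, hφ.2.1, fun _ => hψ.2.2.1 _,
    fun D hD => D.comp_mem (hφ.2.2.2 D hD) (hψ.2.2.2 D hD) hm⟩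
  inv_mem := by
    intro P φ hφ
    obtain ⟨ψ, hψ, he⟩ := F.inv_mem hφ.1
    refine ⟨ψ, ⟨hψ, ?_, ?_, fun D hD => ?_⟩, he⟩
    · rintro _ ⟨x, rfl⟩; exact hφ.2.2.1 x
    · rintro ⟨_, x, rfl⟩; rw [he]; exact hφ.2.1 x.2
    · obtain ⟨ω, hω, he'⟩ := D.inv_mem (hφ.2.2.2 D hD)
      refine hom_congr hω ?_
      rintro ⟨_, x, rfl⟩
      rw [he, he']

theorem lifted_le (F : FusionSystem S) (θ : S →* Ω') (E' : FusionSystem T') (p : ℕ) :
    (lifted F θ E' p).IsSubsystemOf F := fun _ _ h => h.1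

theorem lifted_least {F : FusionSystem S} {θ : S →* Ω'} {E' : FusionSystem T'} {p : ℕ}
    {D : FusionSystem (preimageAlong θ T')} (hD : Contains F θ E' p D) :
    (lifted F θ E' p).IsSubsystemOf D := fun _ _ h => h.2.2.2 D hD

/-- The maps of `F` inside the preimage inducing maps of `E'`. -/
def overSystem (F : FusionSystem S) (θ : S →* Ω') (E' : FusionSystem T') :
    FusionSystem (preimageAlong θ T') where
  Hom P := {φ | φ ∈ F.Hom P ∧ P ≤ preimageAlong θ T' ∧ (∀ x, φ x ∈ preimageAlong θ T') ∧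
    ∃ e ∈ E'.Hom (imageAlong θ P), InducedAlong θ φ e}
  le_of_mem h := ⟨h.2.1, h.2.2.1⟩
  injective_of_mem h := F.injective_of_mem h.1
  conj_mem := by
    intro P g hP hg
    obtain ⟨hgS, hgT⟩ := mem_preimageAlong.1 hg
    refine ⟨F.conj_mem (hP.trans (preimageAlong_le θ T')) hgS, hP,
      fun x => mul_mem (mul_mem hg (hP x.2)) (inv_mem hg), conjHom _ (θ ⟨g, hgS⟩),
      E'.conj_mem ?_ hgT, hP.trans (preimageAlong_le θ T'),
      fun x => S.mul_mem (S.mul_mem hgS (preimageAlong_le θ T' (hP x.2))) (S.inv_mem hgS),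
      fun x => ⟨⟨x, preimageAlong_le θ T' (hP x.2)⟩, x.2, rfl⟩, fun x => ?_⟩
    · rintro _ ⟨s, hs, rfl⟩; exact (mem_preimageAlong.1 (hP hs)).2
    · rw [conjHom_apply]
      show θ ⟨g, hgS⟩ * θ _ * (θ ⟨g, hgS⟩)⁻¹ = _
      rw [← map_inv, ← map_mul, ← map_mul]
      rfl
  comp_mem := by
    rintro P Q φ ψ ⟨hφ, hP, hφT, e, he, hi⟩ ⟨hψ, hQ, hψT, e', he', hi'⟩ hm
    have hval : ∀ y, e y ∈ imageAlong θ Q := by
      rintro ⟨_, s, hs, rfl⟩
      refine (congrArg (· ∈ imageAlong θ Q)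
        (inducedAlong_apply hi ⟨s, hs⟩ s.2 ⟨s, hs, rfl⟩ (apply_mem hφ _))).mpr ?_
      exact ⟨⟨φ ⟨s, hs⟩, _⟩, hm _, rfl⟩
    obtain ⟨e'', he'', hee⟩ := exists_comp he he' hval
    obtain ⟨hPS, hv, hP', hi⟩ := hi
    refine ⟨F.comp_mem hφ hψ hm, hP, fun x => hψT _, e'', he'', hPS, fun x => apply_mem hψ _, hP', fun x => ?_⟩
    rw [hee, show (⟨e ⟨θ ⟨x, hPS x.2⟩, hP' x⟩, hval _⟩ : imageAlong θ Q) =
      ⟨θ ⟨φ x, hv x⟩, ⟨⟨φ x, hv x⟩, hm x, rfl⟩⟩ from Subtype.ext (hi x)]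
    exact inducedAlong_apply hi' ⟨φ x, hm x⟩ (hv x) _ _
  inv_mem := by
    rintro P φ ⟨hφ, hP, hφT, e, he, hPS, hv, hP', hi⟩
    obtain ⟨ψ, hψ, hψe⟩ := F.inv_mem hφ
    obtain ⟨e₂, he₂, he₂e⟩ := E'.inv_mem he
    have hrange : imageAlong θ φ.range = e.range := by
      ext y
      constructor
      · rintro ⟨s, ⟨x, hx⟩, rfl⟩
        exact ⟨⟨_, hP' x⟩, (hi x).trans (congrArg θ (Subtype.ext hx))⟩
      · rintro ⟨⟨_, s, hs, rfl⟩, rfl⟩
        exact ⟨⟨φ ⟨s, hs⟩, hv _⟩, ⟨⟨s, hs⟩, rfl⟩, (hi ⟨s, hs⟩).symm⟩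
    obtain ⟨e₃, he₃, he₃e⟩ := exists_restrict he₂ hrange.le
    refine ⟨ψ, ⟨hψ, ?_, ?_, e₃, he₃, ?_, fun y => apply_mem hψ y, ?_, ?_⟩, hψe⟩
    · rintro _ ⟨x, rfl⟩; exact hφT x
    · rintro ⟨_, x, rfl⟩; rw [hψe]; exact hP x.2
    · rintro _ ⟨x, rfl⟩; exact hv x
    · rintro ⟨_, x, rfl⟩; exact ⟨⟨φ x, hv x⟩, ⟨x, rfl⟩, rfl⟩
    · rintro ⟨_, x, rfl⟩
      have hx : e ⟨_, hP' x⟩ = θ ⟨φ x, hv x⟩ := hi x
      rw [he₃e, show (⟨θ ⟨φ x, hv x⟩, hrange.le ⟨⟨φ x, hv x⟩, ⟨x, rfl⟩, rfl⟩⟩ : e.range) =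
        ⟨e ⟨_, hP' x⟩, _, rfl⟩ from Subtype.ext hx.symm, he₂e]
      exact congrArg θ (Subtype.ext (hψe x).symm)

variable [Finite S] {p : ℕ} [Fact p.Prime] {F : FusionSystem S} {θ : S →* Ω'} {F' : FusionSystem S'}
variable {E' : FusionSystem T'} (h : Setup F θ F' E' p)
include h

namespace Setup

theorem contains_lifted : Contains F θ E' p (lifted F θ E' p) := fun R' hR' a ha => by
  have hle := preimageAlong_mono (θ := θ) hR'.1
  refine (mem_autGroup hle).2 ⟨(mem_autGroup (preimageAlong_le θ R')).1 (h.Aut_le_pre hR'.1 ha).1, hle,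
    fun x => hle (a x).2, fun D hD => (mem_autGroup hle).1 (hD R' hR' ha)⟩

theorem contains_overSystem : Contains F θ E' p (overSystem F θ E') := fun R' hR' a ha => by
  obtain ⟨haF, b, hb, hab⟩ := h.Aut_le_pre hR'.1 ha
  have hle := preimageAlong_mono (θ := θ) hR'.1
  have himg : imageAlong θ (preimageAlong θ R') = R' := imageAlong_preimageAlong h.hr (hR'.1.trans h.hT')
  obtain ⟨e₀, he₀, -, he₀e⟩ := exists_hom_of_aut hR'.1 hb
  obtain ⟨e, he, hee⟩ := exists_restrict he₀ himg.le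
  refine (mem_autGroup hle).2 ⟨(mem_autGroup (preimageAlong_le θ R')).1 haF, hle, fun x => hle (a x).2, e, he,
    preimageAlong_le θ R', fun x => preimageAlong_le θ R' (a x).2,
    fun x => ⟨⟨x, preimageAlong_le θ R' x.2⟩, x.2, rfl⟩, fun x => ?_⟩
  rw [hee, he₀e, show (⟨θ ⟨(x : Ω), preimageAlong_le θ R' x.2⟩, _⟩ : R') = proj θ R' x from Subtype.ext rfl, hab]
  rfl

/-- Maps of the lifted system induce maps of the subsystem. -/
theorem lifted_over {P : Subgroup Ω} {φ : P →* Ω} (hφ : φ ∈ (lifted F θ E' p).Hom P) :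
    ∃ e ∈ E'.Hom (imageAlong θ P), InducedAlong θ φ e :=
  (lifted_least h.contains_overSystem P hφ).2.2.2

theorem lifted_ind {P' : Subgroup Ω'} (hP' : P' ≤ S') {φ : ↥(preimageAlong θ P') →* Ω}
    (hφ : φ ∈ (lifted F θ E' p).Hom (preimageAlong θ P')) :
    ∃ e ∈ E'.Hom P', (∀ x, e (proj θ P' x) = θ ⟨φ x, apply_mem hφ.1 x⟩) ∧
      φ.range = preimageAlong θ e.range := by
  obtain ⟨e₀, he₀, hi⟩ := h.lifted_over hφ
  have himg : imageAlong θ (preimageAlong θ P') = P' := imageAlong_preimageAlong h.hr hP'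
  obtain ⟨e, he, hee⟩ := exists_restrict he₀ himg.ge
  have key : ∀ x, e (proj θ P' x) = θ ⟨φ x, apply_mem hφ.1 x⟩ := fun x => by
    rw [hee]; exact inducedAlong_apply hi x _ _ _
  obtain ⟨φ', hφ', hi', hr'⟩ := h.exists_ind hP' hφ.1
  have : φ' = e := MonoidHom.ext fun y => by
    obtain ⟨x, rfl⟩ := h.proj_surjective hP' y
    rw [key, hi']
  exact ⟨e, he, key, this ▸ hr'⟩

theorem lifted_aut_le_pre {R' : Subgroup Ω'} (hR' : R' ≤ T') :
    (lifted F θ E' p).autGroup (preimageAlong θ R') ≤ pre F θ E' R' := fun a ha => by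
  have hle := preimageAlong_mono (θ := θ) hR'
  obtain ⟨φ, hφ, hr, hφe⟩ := exists_hom_of_aut hle ha
  obtain ⟨e, he, hi, hr'⟩ := h.lifted_ind (hR'.trans h.hT') hφ
  have hr2 : e.range = R' :=
    h.preimage_injective ((range_le_base he).trans h.hT') (hR'.trans h.hT') (hr'.symm.trans hr)
  refine ⟨mem_autGroup_of_hom hφ.1 fun x => (hφe x).symm, homEquiv he hr2, homEquiv_mem_autGroup he hr2,
    fun x => Subtype.ext ?_⟩
  rw [homEquiv_coe, hi, proj_coe]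
  exact congrArg θ (Subtype.ext (hφe x))

/-- Every map of the subsystem lifts. -/
theorem exists_lifted {P' : Subgroup Ω'} {e : P' →* Ω'} (he : e ∈ E'.Hom P') :
    ∃ φ, ∃ hφ : φ ∈ (lifted F θ E' p).Hom (preimageAlong θ P'),
      ∀ x, e (proj θ P' x) = θ ⟨φ x, apply_mem hφ.1 x⟩ := by
  haveI := h.finiteT'
  refine FusionP3.Induction.hom_induction h.pgroupT' h.esat
    (M := fun P' e => ∃ φ, ∃ hφ : φ ∈ (lifted F θ E' p).Hom (preimageAlong θ P'),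
      ∀ x, e (proj θ P' x) = θ ⟨φ x, apply_mem hφ.1 x⟩) ?_ ?_ ?_ P' e he
  · rintro P Q e₁ e₂ e₃ - - hm he₃ ⟨φ, hφ, hi⟩ ⟨ψ, hψ, hi'⟩
    have hval : ∀ x, φ x ∈ preimageAlong θ Q := fun x =>
      mem_preimageAlong.2 ⟨apply_mem hφ.1 x, hi x ▸ hm _⟩
    obtain ⟨χ, hχ, hχe⟩ := exists_comp hφ hψ hval
    refine ⟨χ, hχ, fun x => ?_⟩
    rw [he₃, show (⟨e₁ (proj θ P x), hm _⟩ : Q) = proj θ Q ⟨φ x, hval x⟩ from Subtype.ext (hi x), hi']
    exact congrArg θ (Subtype.ext (hχe x).symm)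
  · rintro P Q e₁ e₂ hle - he ⟨ψ, hψ, hi⟩
    obtain ⟨φ, hφ, hφe⟩ := exists_restrict hψ (preimageAlong_mono hle)
    refine ⟨φ, hφ, fun x => ?_⟩
    rw [he, show (⟨((proj θ P x : P) : Ω'), hle (proj θ P x).2⟩ : Q) =
      proj θ Q ⟨x, preimageAlong_mono hle x.2⟩ from Subtype.ext rfl, hi]
    exact congrArg θ (Subtype.ext (hφe x).symm)
  · intro P hn hc _ α hα _
    obtain ⟨a, ha, hab⟩ := h.exists_Aut_lift hn.1 hα
    have haD := h.contains_lifted P hc ha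
    refine ⟨_, (mem_autGroup (preimageAlong_mono hn.1)).1 haD, fun x => ?_⟩
    show ((α (proj θ P x) : P) : Ω') = _
    rw [hab]
    rfl

end Setup

end Cfsg.Agent.Lib.FS.CentralLift
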